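import Groth.Agent.UnivOpenAt.Core
import Groth.Agent.UnivOpen.Main
import Groth.Prelude.Def_EGA43

/-!
# Universal openness at a point: criteria
-/

set_option autoImplicit false
set_option backward.isDefEq.respectTransparency false
universe u

open CategoryTheory Limits AlgebraicGeometry TensorProduct Topology

namespace Groth.Agent.UnivOpenAt

open UnivOpen

variable {X Y : Scheme.{u}} (f : X ⟶ Y) {U : Y.Opens} (hU : IsAffineOpen U) {V : X.Opens} (hV : IsAffineOpen V)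
  (hVU : V ≤ f ⁻¹ᵁ U)

/-- The affine chart of a base change. -/
theorem exists_chart {Z : Scheme.{u}} (g : Z ⟶ Y) (C : Type u) [CommRing C] [Algebra Γ(Y, U) C]
    (c : Spec (.of C) ⟶ Z) [IsOpenImmersion c]
    (hc : c ≫ g = Spec.map (CommRingCat.ofHom (algebraMap Γ(Y, U) C)) ≫ hU.fromSpec) :
    letI := (f.appLE U V hVU).hom.toAlgebra
    ∃ Φ : Spec (.of (C ⊗[Γ(Y, U)] Γ(X, V))) ⟶ pullback f g, IsOpenImmersion Φ ∧
      (∀ P : PrimeSpectrum (C ⊗[Γ(Y, U)] Γ(X, V)),
        pullback.fst f g (Φ P) = hV.fromSpec (PrimeSpectrum.comap (inr Γ(Y, U) Γ(X, V) C) P)) ∧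
      (∀ P : PrimeSpectrum (C ⊗[Γ(Y, U)] Γ(X, V)),
        pullback.snd f g (Φ P) = c (PrimeSpectrum.comap (inl Γ(Y, U) Γ(X, V) C) P)) ∧
      ∀ w, pullback.fst f g w ∈ V → pullback.snd f g w ∈ Set.range c →
        ∃ P : PrimeSpectrum (C ⊗[Γ(Y, U)] Γ(X, V)), Φ P = w := by
  letI := (f.appLE U V hVU).hom.toAlgebra
  let m := Spec.map (CommRingCat.ofHom (algebraMap Γ(Y, U) Γ(X, V)))
  have e₂ : m ≫ hU.fromSpec = hV.fromSpec ≫ f := IsAffineOpen.SpecMap_appLE_fromSpec f hU hV hVU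
  let e := (pullbackSpecIso Γ(Y, U) C Γ(X, V)).inv
  let ι := pullback.map _ m g f c hV.fromSpec hU.fromSpec hc.symm e₂
  let Φ := e ≫ ι ≫ (pullbackSymmetry g f).hom
  have h1 : Φ ≫ pullback.fst f g = Spec.map (CommRingCat.ofHom (inr Γ(Y, U) Γ(X, V) C)) ≫ hV.fromSpec := by
    simp only [Φ, ι, e, Category.assoc, pullbackSymmetry_hom_comp_fst, pullback.lift_snd]
    rw [← Category.assoc, pullbackSpecIso_inv_snd]
    rfl
  have h2 : Φ ≫ pullback.snd f g = Spec.map (CommRingCat.ofHom (inl Γ(Y, U) Γ(X, V) C)) ≫ c := by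
    simp only [Φ, ι, e, Category.assoc, pullbackSymmetry_hom_comp_snd, pullback.lift_fst]
    rw [← Category.assoc, pullbackSpecIso_inv_fst]
  refine ⟨Φ, inferInstance, fun P => congr($h1 P), fun P => congr($h2 P), fun w hw₁ hw₂ => ?_⟩
  obtain ⟨w', rfl⟩ := (pullbackSymmetry g f).hom.surjective w
  obtain ⟨w₀, rfl⟩ : w' ∈ Set.range ι := by
    rw [Scheme.Pullback.range_map]
    refine ⟨?_, hV.range_fromSpec.ge ?_⟩
    · rw [← Scheme.Hom.comp_apply, pullbackSymmetry_hom_comp_snd] at hw₂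
      exact hw₂
    · rw [← Scheme.Hom.comp_apply, pullbackSymmetry_hom_comp_fst] at hw₁
      exact hw₁
  obtain ⟨P, rfl⟩ := e.surjective w₀
  exact ⟨P, rfl⟩

variable {x : X} (hx : x ∈ V)

theorem fromSpec_eq_iff (P : PrimeSpectrum Γ(X, V)) :
    hV.fromSpec P = x ↔ P.asIdeal = (hV.primeIdealOf ⟨x, hx⟩).asIdeal := by
  refine Iff.trans ⟨fun h => ?_, fun h => ?_⟩ PrimeSpectrum.ext_iff
  · exact hV.fromSpec.isOpenEmbedding.injective (h.trans (hV.fromSpec_primeIdealOf ⟨x, hx⟩).symm)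
  · rw [h]; exact hV.fromSpec_primeIdealOf ⟨x, hx⟩

include hU hV hVU hx in
/-- Torsion statements give universal openness at the point. -/
theorem isUnivOpenAt_of_torAt [IsNoetherianRing Γ(Y, U)] [LocallyOfFiniteType f]
    (h : letI := (f.appLE U V hVU).hom.toAlgebra
      ∀ (C : Type u) [CommRing C] [IsDomain C] [Algebra Γ(Y, U) C],
        TorAt (A := Γ(Y, U)) (hV.primeIdealOf ⟨x, hx⟩).asIdeal C) :
    EGA43.IsUnivOpenAt f x := by
  letI := (f.appLE U V hVU).hom.toAlgebra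
  intro Z g w hw N hN
  haveI : Algebra.FiniteType Γ(Y, U) Γ(X, V) := f.finiteType_appLE hU hV hVU
  haveI : Algebra.FinitePresentation Γ(Y, U) Γ(X, V) := Algebra.FinitePresentation.of_finiteType.mp ‹_›
  have hgU : g (pullback.snd f g w) ∈ U := by
    rw [← Scheme.Hom.comp_apply, ← pullback.condition, Scheme.Hom.comp_apply, hw]
    exact hVU hx
  obtain ⟨W, hW, hzW, hWU⟩ := exists_isAffineOpen_mem_and_subset (U := g ⁻¹ᵁ U) (x := pullback.snd f g w) hgU
  letI := (g.appLE U W hWU).hom.toAlgebra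
  obtain ⟨Φ, hΦ, hfst, hsnd, hsurj⟩ := exists_chart f hU hV hVU g Γ(Z, W) hW.fromSpec
    (IsAffineOpen.SpecMap_appLE_fromSpec g hU hW hWU).symm
  obtain ⟨P, rfl⟩ := hsurj w (hw.symm ▸ hx) (hW.range_fromSpec.ge hzW)
  have hPp := (fromSpec_eq_iff hV hx _).1 ((hfst P).symm.trans hw)
  have hN' : Φ ⁻¹' N ∈ nhds P := Φ.continuous.continuousAt.preimage_mem_nhds hN
  obtain ⟨O, ⟨r, rfl⟩, hrP, hrN⟩ := PrimeSpectrum.isTopologicalBasis_basic_opens.mem_nhds_iff.1 hN'
  have hfp : (inl Γ(Y, U) Γ(X, V) Γ(Z, W)).FinitePresentation :=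
    RingHom.finitePresentation_algebraMap.2
      (inferInstance : Algebra.FinitePresentation Γ(Z, W) (Γ(Z, W) ⊗[Γ(Y, U)] Γ(X, V)))
  have hS := mem_nhds_of_isConstructible (q := PrimeSpectrum.comap (inl Γ(Y, U) Γ(X, V) Γ(Z, W)) P)
    (PrimeSpectrum.isConstructible_comap_image hfp (PrimeSpectrum.isConstructible_basicOpen (f := r)))
    (fun Q hQ => by
      obtain ⟨P', hP', hle, hc⟩ := exists_le_comap_eq (h (Γ(Z, W) ⧸ Q.asIdeal)) P.asIdeal hPp hQ
      exact ⟨⟨P', hP'⟩, fun hr => hrP (hle hr), PrimeSpectrum.ext hc⟩)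
  rw [hsnd]
  refine Filter.mem_of_superset (hW.fromSpec.isOpenEmbedding.isOpenMap.image_mem_nhds hS) ?_
  rintro _ ⟨_, ⟨P', hP', rfl⟩, rfl⟩
  exact ⟨Φ P', hrN hP', hsnd P'⟩

/-- Openness at the points over `x` of a base change gives torsion statements. -/
theorem bot_mem_image_of_isOpenAt {Z : Scheme.{u}} (g : Z ⟶ Y) (C : Type u) [CommRing C] [IsDomain C]
    [Algebra Γ(Y, U) C] (c : Spec (.of C) ⟶ Z) [IsOpenImmersion c]
    (hc : c ≫ g = Spec.map (CommRingCat.ofHom (algebraMap Γ(Y, U) C)) ≫ hU.fromSpec)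
    (hopen : ∀ w : ↥(pullback f g), (pullback.fst f g).base w = x → EGA43.IsOpenAt (pullback.snd f g).base w) :
    letI := (f.appLE U V hVU).hom.toAlgebra
    TorAt (A := Γ(Y, U)) (hV.primeIdealOf ⟨x, hx⟩).asIdeal C := by
  letI := (f.appLE U V hVU).hom.toAlgebra
  refine torAt_of_bot_mem_image fun u P hPp hu => ?_
  obtain ⟨Φ, hΦ, hfst, hsnd, -⟩ := exists_chart f hU hV hVU g C c hc
  have h1 := hopen (Φ P) ((hfst P).trans ((fromSpec_eq_iff hV hx _).2 hPp))
    (Φ '' (PrimeSpectrum.basicOpen u : Set (PrimeSpectrum (C ⊗[Γ(Y, U)] Γ(X, V)))))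
    (Φ.isOpenEmbedding.isOpenMap.image_mem_nhds ((PrimeSpectrum.basicOpen u).isOpen.mem_nhds hu))
  obtain ⟨O, hOsub, hO, hPO⟩ := mem_nhds_iff.1 h1
  have hsp : c (⊥ : PrimeSpectrum C) ⤳ pullback.snd f g (Φ P) := by
    rw [hsnd]
    exact ((PrimeSpectrum.le_iff_specializes (⊥ : PrimeSpectrum C) _).1 bot_le).map c.continuous
  obtain ⟨_, ⟨P₁, hP₁, rfl⟩, hP₁c⟩ := hOsub (hsp.mem_open hO hPO)
  exact ⟨P₁, hP₁, congrArg PrimeSpectrum.asIdeal (c.isOpenEmbedding.injective ((hsnd P₁).symm.trans hP₁c))⟩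

include hU hV hVU hx in
theorem torAt_of_isUnivOpenAt (h : EGA43.IsUnivOpenAt f x) (C : Type u) [CommRing C] [IsDomain C]
    [Algebra Γ(Y, U) C] :
    letI := (f.appLE U V hVU).hom.toAlgebra
    TorAt (A := Γ(Y, U)) (hV.primeIdealOf ⟨x, hx⟩).asIdeal C :=
  bot_mem_image_of_isOpenAt f hU hV hVU hx (Spec.map (CommRingCat.ofHom (algebraMap Γ(Y, U) C)) ≫ hU.fromSpec)
    C (𝟙 _) (Category.id_comp _) (h _ _)

/-- Torsion descends along integral injective extensions. -/
theorem mem_of_map {A B D S : Type u} [CommRing A] [CommRing B] [CommRing D] [CommRing S]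
    [Algebra A B] [Algebra A D] [Algebra A S] [Algebra D S] [IsScalarTower A D S] [Algebra.IsIntegral D S]
    (hinj : Function.Injective (algebraMap D S)) {u : D ⊗[A] B} (P : Ideal (D ⊗[A] B)) [P.IsPrime]
    (h : ∀ P' : Ideal (S ⊗[A] B), P'.IsPrime → P'.comap (inr A B S) = P.comap (inr A B D) →
      Algebra.TensorProduct.map (IsScalarTower.toAlgHom A D S) (AlgHom.id A B) u ∈ P') :
    u ∈ P := by
  by_contra hu
  let η : D ⊗[A] B →ₐ[A] P.ResidueField := IsScalarTower.toAlgHom A _ _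
  let ηD : D →ₐ[A] P.ResidueField := η.comp Algebra.TensorProduct.includeLeft
  let ηB : B →ₐ[A] P.ResidueField := η.comp Algebra.TensorProduct.includeRight
  set q := RingHom.ker ηD.toRingHom
  haveI : q.IsPrime := RingHom.ker_isPrime _
  obtain ⟨q', -, hq', hq'q⟩ := Ideal.exists_ideal_over_prime_of_isIntegral q (⊥ : Ideal S)
    (by rw [← RingHom.ker_eq_comap_bot, (RingHom.injective_iff_ker_eq_bot _).mp hinj]; exact bot_le)
  let a : q.ResidueField →+* q'.ResidueField := Ideal.ResidueField.map q q' (algebraMap D S) hq'q.symm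
  let b : q.ResidueField →+* P.ResidueField := Ideal.ResidueField.lift q ηD.toRingHom le_rfl
    (fun d hd => isUnit_iff_ne_zero.mpr fun h0 => hd (RingHom.mem_ker.mpr h0))
  obtain ⟨K, _, σq, σP, hσ⟩ := exists_field_amalgam a b
  let σS : S →+* K := σq.comp (algebraMap S q'.ResidueField)
  have hagree : ∀ d : D, σS (algebraMap D S d) = σP (ηD d) := by
    intro d
    show σq (algebraMap S q'.ResidueField (algebraMap D S d)) = σP (ηD d)
    exact (congrArg σq (Ideal.ResidueField.map_algebraMap (I := q) (J := q') (f := algebraMap D S) hq'q.symm d).symm).trans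
      ((hσ _).trans (congrArg σP (Ideal.ResidueField.lift_algebraMap q ηD.toRingHom _ _ d)))
  letI : Algebra A K := (σS.comp (algebraMap A S)).toAlgebra
  let σS' : S →ₐ[A] K := { σS with commutes' := fun _ => rfl }
  let σP' : P.ResidueField →ₐ[A] K :=
    { σP with
      commutes' := fun r => by
        show σP (algebraMap A P.ResidueField r) = σS (algebraMap A S r)
        rw [IsScalarTower.algebraMap_apply A D S, hagree, ηD.commutes] }
  let χ : S ⊗[A] B →ₐ[A] K :=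
    Algebra.TensorProduct.lift σS' (σP'.comp ηB) (fun _ _ => .all _ _)
  have hfac : χ.comp (Algebra.TensorProduct.map (IsScalarTower.toAlgHom A D S) (AlgHom.id A B)) =
      σP'.comp η := by
    refine Algebra.TensorProduct.ext (AlgHom.ext fun d => ?_) (AlgHom.ext fun x => ?_)
    · simpa [χ, σS', σP', ηD, ← Algebra.TensorProduct.one_def] using hagree d
    · simp [χ, σP', ηB]
  have h0 : σP (η u) = 0 := (AlgHom.congr_fun hfac u).symm.trans
    (h (RingHom.ker χ.toRingHom) (RingHom.ker_isPrime _) (by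
      ext x
      show χ ((1 : S) ⊗ₜ[A] x) = 0 ↔ (1 : D) ⊗ₜ[A] x ∈ P
      rw [show χ ((1 : S) ⊗ₜ[A] x) = σP (η ((1 : D) ⊗ₜ[A] x)) by simp [χ, σP', ηB], map_eq_zero]
      exact Ideal.algebraMap_residueField_eq_zero))
  exact hu (Ideal.algebraMap_residueField_eq_zero.mp ((map_eq_zero σP).mp h0))

include hU hV hVU hx in
/-- Openness after finite base changes gives torsion statements for finite domains. -/
theorem torAt_of_finite [IsNoetherian Y]
    (hyp : ∀ (Y₁ : Scheme.{u}) (g : Y₁ ⟶ Y) [IsFinite g], ∀ w : ↥(pullback f g),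
      (pullback.fst f g).base w = x → EGA43.IsOpenAt (pullback.snd f g).base w)
    (D : Type u) [CommRing D] [IsDomain D] [Algebra Γ(Y, U) D] [Module.Finite Γ(Y, U) D] :
    letI := (f.appLE U V hVU).hom.toAlgebra
    TorAt (A := Γ(Y, U)) (hV.primeIdealOf ⟨x, hx⟩).asIdeal D := by
  letI := (f.appLE U V hVU).hom.toAlgebra
  intro s u hs hsu P hP hPp
  classical
  let L := FractionRing D
  let Xl := Spec (CommRingCat.of L)
  let g : Xl ⟶ Y := Spec.map (CommRingCat.ofHom (algebraMap Γ(Y, U) L)) ≫ hU.fromSpec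
  haveI : CompactSpace Xl := inferInstance
  haveI : QuasiSeparated g := inferInstance
  haveI : QuasiCompact g := inferInstance
  let ρ : L →+* Γ(Xl, g ⁻¹ᵁ U) := (resGlob g U).comp (Scheme.ΓSpecIso (CommRingCat.of L)).inv.hom
  have htop : g ⁻¹ᵁ U = ⊤ := by
    refine top_le_iff.mp fun y _ => ?_
    show hU.fromSpec _ ∈ U
    exact hU.range_fromSpec.le ⟨_, rfl⟩
  haveI hρiso : IsIso (Xl.presheaf.map (homOfLE (le_top : g ⁻¹ᵁ U ≤ ⊤)).op) := by
    haveI : IsIso (homOfLE (le_top : g ⁻¹ᵁ U ≤ ⊤)) := ⟨homOfLE htop.ge, Subsingleton.elim _ _, Subsingleton.elim _ _⟩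
    infer_instance
  have hρ : Function.Bijective ρ :=
    (ConcreteCategory.bijective_of_isIso (Xl.presheaf.map (homOfLE (le_top : g ⁻¹ᵁ U ≤ ⊤)).op)).comp
      (ConcreteCategory.bijective_of_isIso (Scheme.ΓSpecIso (CommRingCat.of L)).inv)
  have happ : ∀ a : Γ(Y, U), g.app U a = ρ (algebraMap Γ(Y, U) L a) := by
    intro a
    have h : g.app U = CommRingCat.ofHom (algebraMap Γ(Y, U) L) ≫ (Scheme.ΓSpecIso (CommRingCat.of L)).inv ≫
        Xl.presheaf.map (homOfLE (le_top : g ⁻¹ᵁ U ≤ ⊤)).op := by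
      simp only [g, Scheme.Hom.comp_app, hU.fromSpec_app_self, Category.assoc]
      rw [Scheme.Hom.naturality, ← Scheme.Hom.appTop, ← Category.assoc (Scheme.ΓSpecIso Γ(Y, U)).inv,
        ← Scheme.ΓSpecIso_inv_naturality, Category.assoc]
      rfl
    exact congr($h a)
  haveI : Algebra.IsIntegral Γ(Y, U) D := Algebra.IsIntegral.of_finite _ _
  obtain ⟨G, hG⟩ := Module.finite_def.mp (inferInstance : Module.Finite Γ(Y, U) D)
  let E : Set Γ(Xl, ⊤) := (fun d => (Scheme.ΓSpecIso (CommRingCat.of L)).inv (algebraMap D L d)) '' (G : Set D)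
  have hρA : ρ.comp (algebraMap Γ(Y, U) L) = (g.app U).hom := RingHom.ext fun a => (happ a).symm
  obtain ⟨S, hS, hES, hSfin, Y₁, π, j, hπ, hj, hjπ⟩ := exists_finite_extension g E ⟨U, hU⟩ (G.finite_toSet.image _) (by
    rintro _ ⟨d, -, rfl⟩
    obtain ⟨p, hp, hpd⟩ := (Algebra.IsIntegral.isIntegral (R := Γ(Y, U)) d).map (IsScalarTower.toAlgHom Γ(Y, U) D L)
    refine ⟨p, hp, ?_⟩
    show Polynomial.eval₂ (g.app U).hom (ρ (algebraMap D L d)) p = 0
    rw [← hρA, ← Polynomial.hom_eval₂]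
    exact (congrArg ρ hpd).trans (map_zero ρ))
  let φ₀ : D →+* Γ(Xl, g ⁻¹ᵁ U) := ρ.comp (algebraMap D L)
  have hφmem : ∀ d, φ₀ d ∈ S := by
    intro d
    have hd : d ∈ Submodule.span Γ(Y, U) (G : Set D) := hG ▸ Submodule.mem_top
    induction hd using Submodule.span_induction with
    | mem y hy => exact hES _ ⟨y, hy, rfl⟩
    | zero => rw [map_zero]; exact S.zero_mem
    | add y z _ _ hy hz => rw [map_add]; exact S.add_mem hy hz
    | smul a y _ hy =>
      rw [Algebra.smul_def, map_mul]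
      refine S.mul_mem ?_ hy
      show ρ (algebraMap D L (algebraMap Γ(Y, U) D a)) ∈ S
      rw [← IsScalarTower.algebraMap_apply, ← happ]
      exact hS a
  let φ : D →+* S := φ₀.codRestrict S hφmem
  let αS : Γ(Y, U) →+* S := (g.app U).hom.codRestrict S hS
  letI : Algebra Γ(Y, U) S := αS.toAlgebra
  letI : Algebra D S := φ.toAlgebra
  haveI : IsScalarTower Γ(Y, U) D S := .of_algebraMap_eq fun a => Subtype.ext (by
    show g.app U a = ρ (algebraMap D L (algebraMap Γ(Y, U) D a))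
    rw [← IsScalarTower.algebraMap_apply, ← happ])
  haveI : IsDomain Γ(Xl, g ⁻¹ᵁ U) := (RingEquiv.ofBijective ρ hρ).toMulEquiv.isDomain_iff.mp inferInstance
  haveI : IsDomain S := inferInstance
  have hφinj : Function.Injective φ := fun a b h =>
    IsFractionRing.injective D L (hρ.1 (congrArg Subtype.val h))
  haveI : Module.Finite Γ(Y, U) S := hSfin
  haveI : Algebra.IsIntegral D S := Algebra.IsIntegral.tower_top (R := Γ(Y, U))
  haveI := hπ
  haveI := hj
  have htor := bot_mem_image_of_isOpenAt f hU hV hVU hx π S j hjπ (hyp Y₁ π)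
  refine mem_of_map (S := S) hφinj P fun P' hP' hP'p => ?_
  refine htor (φ s) _ ((map_ne_zero_iff _ hφinj).mpr hs) ?_ P' hP' (hP'p.trans hPp)
  have := congrArg (Algebra.TensorProduct.map (IsScalarTower.toAlgHom Γ(Y, U) D S) (AlgHom.id Γ(Y, U) Γ(X, V))) hsu
  rw [map_mul, map_zero] at this
  simp only [Algebra.TensorProduct.map_tmul, AlgHom.coe_id, id_eq, map_one] at this
  exact this

/-- Universal openness at a point from openness after finite base changes. -/
theorem isUnivOpenAt_of_finite [IsNoetherian Y] [LocallyOfFiniteType f]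
    (hyp : ∀ (Y₁ : Scheme.{u}) (g : Y₁ ⟶ Y) [IsFinite g], ∀ w : ↥(pullback f g),
      (pullback.fst f g).base w = x → EGA43.IsOpenAt (pullback.snd f g).base w) :
    EGA43.IsUnivOpenAt f x := by
  obtain ⟨U, hU, hxU, -⟩ := exists_isAffineOpen_mem_and_subset (U := (⊤ : Y.Opens)) (x := f x) trivial
  obtain ⟨V, hV, hxV, hVU⟩ := exists_isAffineOpen_mem_and_subset (U := f ⁻¹ᵁ U) (x := x) hxU
  haveI : IsNoetherianRing Γ(Y, U) := IsLocallyNoetherian.component_noetherian ⟨U, hU⟩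
  letI := (f.appLE U V hVU).hom.toAlgebra
  haveI : Algebra.FiniteType Γ(Y, U) Γ(X, V) := f.finiteType_appLE hU hV hVU
  refine isUnivOpenAt_of_torAt f hU hV hVU hxV fun C _ _ _ => torAt_of_finiteType fun D _ _ _ _ =>
    torAt_finiteType_of_finite fun E _ _ _ _ => torAt_of_finite f hU hV hVU hxV hyp E

/-- Universal openness at a point by discrete valuation rings. -/
theorem isUnivOpenAt_iff_dvr [IsLocallyNoetherian Y] [LocallyOfFiniteType f] :
    EGA43.IsUnivOpenAt f x ↔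
      ∀ (A : Type u) [CommRing A] [IsDomain A] [IsDiscreteValuationRing A]
        (g : Spec (CommRingCat.of A) ⟶ Y), g.base (IsLocalRing.closedPoint A) = f.base x →
        ∀ x' : ↥(pullback f g), (pullback.fst f g).base x' = x →
          (pullback.snd f g).base x' = IsLocalRing.closedPoint A →
          ∃ z' : ↥(pullback f g), z' ⤳ x' ∧ (pullback.snd f g).base z' ≠ IsLocalRing.closedPoint A := by
  obtain ⟨U, hU, hxU, -⟩ := exists_isAffineOpen_mem_and_subset (U := (⊤ : Y.Opens)) (x := f x) trivial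
  obtain ⟨V, hV, hxV, hVU⟩ := exists_isAffineOpen_mem_and_subset (U := f ⁻¹ᵁ U) (x := x) hxU
  haveI : IsNoetherianRing Γ(Y, U) := IsLocallyNoetherian.component_noetherian ⟨U, hU⟩
  letI := (f.appLE U V hVU).hom.toAlgebra
  haveI : Algebra.FiniteType Γ(Y, U) Γ(X, V) := f.finiteType_appLE hU hV hVU
  constructor
  · intro h A _ _ _ g hg x' hx' hx'c
    have htop : g ⁻¹ᵁ U = ⊤ := top_le_iff.mp fun a _ => (IsLocalRing.specializes_closedPoint a).mem_open
      (g ⁻¹ᵁ U).isOpen (show g (IsLocalRing.closedPoint A) ∈ U by rw [hg]; exact hxU)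
    have hrange : Set.range g ⊆ Set.range hU.fromSpec := by
      rintro _ ⟨a, rfl⟩
      rw [hU.range_fromSpec]
      exact (htop.ge trivial : a ∈ g ⁻¹ᵁ U)
    let χ := Spec.preimage (IsOpenImmersion.lift hU.fromSpec g hrange)
    letI : Algebra Γ(Y, U) A := χ.hom.toAlgebra
    have hc : 𝟙 _ ≫ g = Spec.map (CommRingCat.ofHom (algebraMap Γ(Y, U) A)) ≫ hU.fromSpec := by
      rw [Category.id_comp, show CommRingCat.ofHom (algebraMap Γ(Y, U) A) = χ from rfl, Spec.map_preimage,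
        IsOpenImmersion.lift_fac]
    obtain ⟨Φ, hΦ, hfst, hsnd, hsurj⟩ := exists_chart f hU hV hVU g A (𝟙 _) hc
    obtain ⟨P, rfl⟩ := hsurj x' (hx'.symm ▸ hxV) ⟨_, rfl⟩
    obtain ⟨P', hP', hle, hP'c⟩ := exists_le_comap_eq (torAt_of_isUnivOpenAt f hU hV hVU hxV h (A ⧸ (⊥ : Ideal A)))
      P.asIdeal ((fromSpec_eq_iff hV hxV _).1 ((hfst P).symm.trans hx')) bot_le
    refine ⟨Φ ⟨P', hP'⟩, ((PrimeSpectrum.le_iff_specializes (⟨P', hP'⟩ : PrimeSpectrum _) P).1 hle).map Φ.continuous,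
      fun hc' => ?_⟩
    have : (⊥ : Ideal A) = IsLocalRing.maximalIdeal A := hP'c.symm.trans
      (congrArg PrimeSpectrum.asIdeal ((hsnd ⟨P', hP'⟩).symm.trans hc'))
    exact IsDiscreteValuationRing.not_a_field A this.symm
  · intro hyp
    refine isUnivOpenAt_of_torAt f hU hV hVU hxV fun C _ _ _ => torAt_of_finiteType fun D _ _ _ _ =>
      torAt_finiteType_of_dvr fun A _ _ _ _ s u hs hsu P hP hPp hPc => ?_
    let g := Spec.map (CommRingCat.ofHom (algebraMap Γ(Y, U) A)) ≫ hU.fromSpec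
    obtain ⟨Φ, hΦ, hfst, hsnd, hsurj⟩ := exists_chart f hU hV hVU g A (𝟙 _) (Category.id_comp g)
    have h1 : pullback.fst f g (Φ ⟨P, hP⟩) = x := (hfst _).trans ((fromSpec_eq_iff hV hxV _).2 hPp)
    have h2 : pullback.snd f g (Φ ⟨P, hP⟩) = IsLocalRing.closedPoint A :=
      (hsnd _).trans (PrimeSpectrum.ext hPc)
    obtain ⟨z, hz, hzc⟩ := hyp A g (by
      rw [← h2, ← Scheme.Hom.comp_apply, ← pullback.condition, Scheme.Hom.comp_apply, h1]) _ h1 h2
    obtain ⟨P', rfl⟩ : z ∈ Set.range Φ := hz.mem_open Φ.isOpenEmbedding.isOpen_range ⟨_, rfl⟩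
    have hle : P'.asIdeal ≤ P :=
      (PrimeSpectrum.le_iff_specializes P' ⟨P, hP⟩).2 (Φ.isOpenEmbedding.isInducing.specializes_iff.1 hz)
    refine hle ((P'.2.mem_or_mem (show (s ⊗ₜ[Γ(Y, U)] (1 : Γ(X, V))) * u ∈ P'.asIdeal from
      hsu ▸ P'.asIdeal.zero_mem)).resolve_left fun hsP => hs ?_)
    have hne : P'.asIdeal.comap (inl Γ(Y, U) Γ(X, V) A) ≠ IsLocalRing.maximalIdeal A := fun he =>
      hzc ((hsnd P').trans (PrimeSpectrum.ext he))
    have hbot : P'.asIdeal.comap (inl Γ(Y, U) Γ(X, V) A) = ⊥ := by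
      by_contra hb
      exact hne (IsLocalRing.eq_maximalIdeal ((inferInstance : (P'.asIdeal.comap _).IsPrime).isMaximal hb))
    exact Ideal.mem_bot.1 (hbot.le hsP)

end Groth.Agent.UnivOpenAt
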