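import Mathlib
import Groth.Agent.UnivOpen.Main
import Groth.Agent.DvrDom.Basic

/-!
# Universal openness at a point, commutative algebra

Pointwise versions of `UnivOpen.NilProp`: `TorAt p C` says that torsion in `C ⊗ B` vanishes at every
point lying over the point `p` of `Spec B`.
-/

set_option autoImplicit false
set_option maxHeartbeats 1000000
set_option synthInstance.maxHeartbeats 400000
universe u

open TensorProduct PrimeSpectrum

namespace Groth.Agent.UnivOpenAt

open UnivOpen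

variable {A B C : Type u} [CommRing A] [CommRing B] [CommRing C] [Algebra A B] [Algebra A C]

variable (A B C) in
/-- `B → C ⊗ B`. -/
abbrev inr : B →+* C ⊗[A] B := (Algebra.TensorProduct.includeRight (R := A) (A := C) (B := B)).toRingHom

variable (A B C) in
/-- `C → C ⊗ B`. -/
abbrev inl : C →+* C ⊗[A] B := Algebra.TensorProduct.includeLeftRingHom (R := A) (A := C) (B := B)

/-- Torsion vanishes at the points over `p`. -/
def TorAt (p : Ideal B) (C : Type u) [CommRing C] [Algebra A C] : Prop :=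
  ∀ (s : C) (u : C ⊗[A] B), s ≠ 0 → (s ⊗ₜ[A] (1 : B)) * u = 0 →
    ∀ P : Ideal (C ⊗[A] B), P.IsPrime → P.comap (inr A B C) = p → u ∈ P

/-- If the image of every basic open at points over `p` contains the generic point, torsion vanishes. -/
theorem torAt_of_bot_mem_image {p : Ideal B}
    (h : ∀ (u : C ⊗[A] B) (P : PrimeSpectrum (C ⊗[A] B)), P.asIdeal.comap (inr A B C) = p → u ∉ P.asIdeal →
      ∃ P₁ : PrimeSpectrum (C ⊗[A] B), u ∉ P₁.asIdeal ∧ P₁.asIdeal.comap (inl A B C) = ⊥) :
    TorAt (A := A) p C := by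
  intro s u hs hsu P hP hPp
  by_contra hu
  obtain ⟨P₁, hu₁, hP₁⟩ := h u ⟨P, hP⟩ hPp hu
  have h1 : (s ⊗ₜ[A] (1 : B)) * u ∈ P₁.asIdeal := hsu ▸ P₁.asIdeal.zero_mem
  have h2 : s ∈ P₁.asIdeal.comap (inl A B C) := (P₁.2.mem_or_mem h1).resolve_right hu₁
  exact hs (Ideal.mem_bot.1 (hP₁ ▸ h2))

/-- Specialise inside a fibre, over a fixed point `p`, to a point with image closed in the fibre of `C`. -/
theorem exists_closed_point_over [Algebra.FiniteType A C] (P : Ideal (C ⊗[A] B)) [P.IsPrime]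
    {u : C ⊗[A] B} (hu : u ∉ P) :
    letI : Algebra C (C ⊗[A] B) := Algebra.TensorProduct.leftAlgebra
    ∃ M : Ideal (C ⊗[A] B), M.IsPrime ∧ u ∉ M ∧
      M.comap (algebraMap A (C ⊗[A] B)) = P.comap (algebraMap A (C ⊗[A] B)) ∧
      M.comap (inr A B C) = P.comap (inr A B C) ∧
      ∀ Q : Ideal C, Q.IsPrime → M.comap (algebraMap C (C ⊗[A] B)) ≤ Q →
        Q.comap (algebraMap A C) = P.comap (algebraMap A (C ⊗[A] B)) → Q = M.comap (algebraMap C (C ⊗[A] B)) := by
  letI : Algebra C (C ⊗[A] B) := Algebra.TensorProduct.leftAlgebra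
  set q0 := P.comap (algebraMap A (C ⊗[A] B)) with hq0
  set p := P.comap (inr A B C) with hp
  have hpq : q0 = p.comap (algebraMap A B) := by
    rw [hp, hq0, Ideal.comap_comap]
    congr 1
    exact (Algebra.TensorProduct.includeRight (R := A) (A := C) (B := B)).comp_algebraMap.symm
  let K := q0.ResidueField
  let L := p.ResidueField
  let a : K →+* L := Ideal.ResidueField.map q0 p (algebraMap A B) hpq
  letI := a.toAlgebra
  haveI : IsScalarTower A K L := .of_algebraMap_eq fun x =>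
    (IsScalarTower.algebraMap_apply A B L x).trans (Ideal.ResidueField.map_algebraMap _ _ _ hpq x).symm
  let R := P.ResidueField
  let b : K →+* R := Ideal.ResidueField.map q0 P (algebraMap A (C ⊗[A] B)) hq0
  letI := b.toAlgebra
  haveI : IsScalarTower A K R := .of_algebraMap_eq fun x =>
    (IsScalarTower.algebraMap_apply A (C ⊗[A] B) R x).trans (Ideal.ResidueField.map_algebraMap _ _ _ hq0 x).symm
  let η : C ⊗[A] B →ₐ[A] R := IsScalarTower.toAlgHom A _ _
  let c : L →+* R := Ideal.ResidueField.map p P (inr A B C) hp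
  let cK : L →ₐ[K] R := { c with
    commutes' := fun k => RingHom.congr_fun
      (Ideal.ResidueField.ringHom_ext (f := c.comp a) (g := b) (RingHom.ext fun x => by
        show c (a (algebraMap A K x)) = b (algebraMap A K x)
        rw [Ideal.ResidueField.map_algebraMap, Ideal.ResidueField.map_algebraMap,
          Ideal.ResidueField.map_algebraMap]
        exact congrArg _ ((Algebra.TensorProduct.includeRight (R := A) (A := C) (B := B)).commutes x))) k }
  let FC := q0.Fiber C
  let fC : FC →ₐ[K] R :=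
    Algebra.TensorProduct.lift (Algebra.ofId K R) (η.comp Algebra.TensorProduct.includeLeft) fun _ _ => .all _ _
  let T := FC ⊗[K] L
  let iC : C →ₐ[A] T := ((Algebra.TensorProduct.includeLeft (R := K) (S := K) (A := FC) (B := L)).restrictScalars A).comp
    Algebra.TensorProduct.includeRight
  let iB : B →ₐ[A] T := ((Algebra.TensorProduct.includeRight (R := K) (A := FC) (B := L)).restrictScalars A).comp
    (IsScalarTower.toAlgHom A B L)
  let θ : C ⊗[A] B →ₐ[A] T := Algebra.TensorProduct.lift iC iB fun x y => mul_comm (iC x) (iB y)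
  have hθC : ∀ x : C, θ (x ⊗ₜ[A] (1 : B)) = algebraMap FC T ((1 : K) ⊗ₜ[A] x) := fun x =>
    (Algebra.TensorProduct.lift_tmul iC iB _ x 1).trans (by rw [map_one, mul_one]; rfl)
  have hθB : ∀ x : B, θ ((1 : C) ⊗ₜ[A] x) = (1 : FC) ⊗ₜ[K] algebraMap B L x := fun x =>
    (Algebra.TensorProduct.lift_tmul iC iB _ 1 x).trans (by rw [map_one, one_mul]; rfl)
  let l : T →ₐ[K] R := Algebra.TensorProduct.lift fC cK fun _ _ => .all _ _
  have hfac : (l.restrictScalars A).comp θ = η := by
    refine Algebra.TensorProduct.ext (AlgHom.ext fun x => ?_) (AlgHom.ext fun x => ?_)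
    · show l (θ (x ⊗ₜ[A] (1 : B))) = η (x ⊗ₜ[A] (1 : B))
      rw [hθC]
      refine (Algebra.TensorProduct.lift_tmul fC cK _ ((1 : K) ⊗ₜ[A] x) (1 : L)).trans ?_
      rw [map_one, mul_one]
      refine (Algebra.TensorProduct.lift_tmul (Algebra.ofId K R) _ _ (1 : K) x).trans ?_
      rw [map_one, one_mul]
      rfl
    · show l (θ ((1 : C) ⊗ₜ[A] x)) = η ((1 : C) ⊗ₜ[A] x)
      rw [hθB]
      refine (Algebra.TensorProduct.lift_tmul fC cK _ (1 : FC) (algebraMap B L x)).trans ?_
      rw [map_one, one_mul]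
      exact Ideal.ResidueField.map_algebraMap _ _ _ hp x
  let N : PrimeSpectrum T := ⟨RingHom.ker l.toRingHom, RingHom.ker_isPrime _⟩
  have hN : θ u ∉ N.asIdeal := fun h =>
    hu (Ideal.algebraMap_residueField_eq_zero.1 ((AlgHom.congr_fun hfac u).symm.trans h))
  haveI : IsJacobsonRing FC := isJacobsonRing_of_finiteType (A := K)
  have hopen : IsOpen (PrimeSpectrum.comap (algebraMap FC T) '' (PrimeSpectrum.basicOpen (θ u) : Set (PrimeSpectrum T))) :=
    PrimeSpectrum.isOpenMap_comap_algebraMap_tensorProduct_of_field _ (PrimeSpectrum.basicOpen (θ u)).isOpen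
  obtain ⟨_, ⟨N', hN', rfl⟩, hm⟩ :=
    nonempty_inter_closedPoints (X := PrimeSpectrum FC)
      (show (PrimeSpectrum.comap (algebraMap FC T) '' (PrimeSpectrum.basicOpen (θ u) : Set (PrimeSpectrum T))).Nonempty from
        ⟨_, N, hN, rfl⟩) hopen.isLocallyClosed
  have hmax : (PrimeSpectrum.comap (algebraMap FC T) N').asIdeal.IsMaximal :=
    (PrimeSpectrum.isClosed_singleton_iff_isMaximal _).1 (mem_closedPoints_iff.1 hm)
  refine ⟨N'.asIdeal.comap θ.toRingHom, inferInstance, hN', ?_, ?_, fun Q hQ hle hQA => ?_⟩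
  · rw [Ideal.comap_comap, show θ.toRingHom.comp (algebraMap A (C ⊗[A] B)) = algebraMap A T from θ.comp_algebraMap,
      IsScalarTower.algebraMap_eq A K T, ← Ideal.comap_comap,
      Ideal.eq_bot_of_prime (N'.asIdeal.comap (algebraMap K T))]
    ext x
    exact Ideal.algebraMap_residueField_eq_zero
  · rw [Ideal.comap_comap, show θ.toRingHom.comp (inr A B C) =
      (Algebra.TensorProduct.includeRight (R := K) (A := FC) (B := L)).toRingHom.comp (algebraMap B L) from
        RingHom.ext fun x => hθB x,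
      ← Ideal.comap_comap, Ideal.eq_bot_of_prime (N'.asIdeal.comap _)]
    ext x
    exact Ideal.algebraMap_residueField_eq_zero
  · let eC := PrimeSpectrum.preimageOrderIsoFiber A C ⟨q0, inferInstance⟩
    let m : PrimeSpectrum FC := PrimeSpectrum.comap (algebraMap FC T) N'
    have hMC : (N'.asIdeal.comap θ.toRingHom).comap (algebraMap C (C ⊗[A] B)) = (eC.symm m).1.asIdeal := by
      ext x
      show θ (x ⊗ₜ[A] (1 : B)) ∈ N'.asIdeal ↔ algebraMap FC T ((1 : K) ⊗ₜ[A] x) ∈ N'.asIdeal
      rw [hθC]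
    rw [hMC] at hle ⊢
    let Qs : (PrimeSpectrum.comap (algebraMap A C) ⁻¹' {⟨q0, inferInstance⟩} : Set _) :=
      ⟨⟨Q, hQ⟩, PrimeSpectrum.ext hQA⟩
    have h1 : m ≤ eC Qs := by
      rw [← eC.symm.le_iff_le, eC.symm_apply_apply]
      exact hle
    have h2 : eC Qs = m := PrimeSpectrum.ext (hmax.eq_of_le (eC Qs).2.ne_top h1).symm
    rw [← h2, eC.symm_apply_apply]

/-- From finite algebras to finitely generated domains. -/
theorem torAt_finiteType_of_finite [IsNoetherianRing A] [Algebra.FiniteType A B] {p : Ideal B}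
    (hN : ∀ (D : Type u) [CommRing D] [IsDomain D] [Algebra A D] [Module.Finite A D], TorAt (A := A) p D)
    [IsDomain C] [Algebra.FiniteType A C] : TorAt (A := A) p C := by
  intro s u hs hsu P hP hPp
  by_contra hu
  letI : Algebra C (C ⊗[A] B) := Algebra.TensorProduct.leftAlgebra
  haveI : Algebra.FiniteType A (C ⊗[A] B) := .trans (S := C) ‹_› inferInstance
  obtain ⟨M, hM, huM, hMA, hMp, hMclosed⟩ := exists_closed_point_over (A := A) (B := B) (C := C) P hu
  rw [hPp] at hMp
  rw [← hMA] at hMclosed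
  set q0 := M.comap (algebraMap A (C ⊗[A] B)) with hq0
  set Q0 := M.comap (algebraMap C (C ⊗[A] B)) with hQ0
  have hQ0A : Q0.comap (algebraMap A C) = q0 := by
    rw [hQ0, hq0, Ideal.comap_comap, ← IsScalarTower.algebraMap_eq]
  by_cases hcase : q0 ≤ RingHom.ker (algebraMap A C)
  · let χ : C ⊗[A] B →ₐ[A] M.ResidueField := IsScalarTower.toAlgHom A _ _
    refine huM (Ideal.algebraMap_residueField_eq_zero.mp (apply_eq_zero_of_ker_eq hs hsu χ ?_))
    intro a ha
    refine hcase ?_
    rw [RingHom.mem_ker, IsScalarTower.algebraMap_apply A (C ⊗[A] B) M.ResidueField,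
      Ideal.algebraMap_residueField_eq_zero] at ha
    exact ha
  obtain ⟨a, haq0, haC⟩ := SetLike.not_le_iff_exists.mp hcase
  haveI : IsNoetherianRing C := Algebra.FiniteType.isNoetherianRing A C
  -- a prime below `Q0` with one dimensional quotient
  set D := Localization.AtPrime Q0
  haveI : IsDomain D := IsLocalization.isDomain_localization Q0.primeCompl_le_nonZeroDivisors
  have hts : algebraMap A C a * s ≠ 0 := mul_ne_zero (fun h => haC (RingHom.mem_ker.mpr h)) hs
  obtain ⟨QD, hQD, htQD, hQDmax⟩ := exists_prime_dim_one (D := D) (t := algebraMap C D (algebraMap A C a * s))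
    ((map_ne_zero_iff _ (IsLocalization.injective D Q0.primeCompl_le_nonZeroDivisors)).mpr hts)
  set Qc := QD.comap (algebraMap C D) with hQc
  have hQcle : Qc ≤ Q0 := fun x hx => by
    by_contra hxn
    exact hQD.ne_top (Ideal.eq_top_of_isUnit_mem _ hx (IsLocalization.map_units D (⟨x, hxn⟩ : Q0.primeCompl)))
  have htQc : algebraMap A C a * s ∉ Qc := htQD
  have hbetween : ∀ R : Ideal C, R.IsPrime → Qc ≤ R → R ≤ Q0 → algebraMap A C a ∈ R → R = Q0 := by
    intro R hR h1 h2 h3
    have hlt : QD < R.map (algebraMap C D) := by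
      refine lt_of_le_of_ne ?_ fun heq => htQc (Ideal.mul_mem_right _ _ ?_)
      · calc QD = Qc.map (algebraMap C D) := (IsLocalization.map_comap Q0.primeCompl D QD).symm
          _ ≤ _ := Ideal.map_mono h1
      · rw [hQc, heq]
        exact Ideal.mem_map_of_mem _ h3
    have h := congrArg (Ideal.under C) (hQDmax _ (Ideal.isPrime_map_of_isLocalizationAtPrime Q0 h2) hlt)
    rwa [Ideal.under_map_of_isLocalizationAtPrime Q0 h2, Localization.AtPrime.under_maximalIdeal] at h
  -- the curve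
  set E := C ⧸ Qc
  let mk : C →ₐ[A] E := Ideal.Quotient.mkₐ A Qc
  haveI : Algebra.FiniteType A E := .of_surjective mk Ideal.Quotient.mk_surjective
  set L := M.ResidueField
  let χ : C ⊗[A] B →ₐ[A] L := IsScalarTower.toAlgHom A _ _
  have hχu : χ u ≠ 0 := fun h => huM (Ideal.algebraMap_residueField_eq_zero.mp h)
  let χE : E →ₐ[A] L := Ideal.Quotient.liftₐ Qc (χ.comp Algebra.TensorProduct.includeLeft) fun x hx =>
    Ideal.algebraMap_residueField_eq_zero.mpr (hQcle hx)
  let θ : E ⊗[A] B →ₐ[A] L :=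
    Algebra.TensorProduct.lift χE (χ.comp Algebra.TensorProduct.includeRight) (fun _ _ => .all _ _)
  let π : C ⊗[A] B →ₐ[A] E ⊗[A] B := Algebra.TensorProduct.map mk (AlgHom.id A B)
  have hθπ : θ.comp π = χ := by
    refine Algebra.TensorProduct.ext (AlgHom.ext fun c => ?_) (AlgHom.ext fun b => ?_)
    · simp [θ, π, mk, χE, ← Algebra.TensorProduct.one_def]; rfl
    · simp [θ, π]
  let m : PrimeSpectrum E := ⟨RingHom.ker χE.toRingHom, RingHom.ker_isPrime _⟩
  haveI : m.asIdeal.IsPrime := m.2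
  have hm : ∀ c, mk c ∈ m.asIdeal ↔ c ∈ Q0 := fun c => by
    show χE (mk c) = 0 ↔ _
    simp only [χE, mk, Ideal.Quotient.mkₐ_eq_mk]
    exact Ideal.algebraMap_residueField_eq_zero
  have hQA : ∀ P : PrimeSpectrum E, ∀ x, algebraMap A C x ∈ P.asIdeal.comap mk.toRingHom ↔
      x ∈ P.asIdeal.comap (algebraMap A E) := fun P x => by
    simp only [Ideal.mem_comap, AlgHom.toRingHom_eq_coe, RingHom.coe_coe, mk.commutes]
  have hmC : m.asIdeal.comap mk.toRingHom = Q0 := by ext c; exact hm c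
  have hmA : m.asIdeal.comap (algebraMap A E) = q0 := by
    ext x; rw [← hQA, hmC, ← hQ0A]; rfl
  have hm_min : ∀ P : PrimeSpectrum E, P.asIdeal ≤ m.asIdeal → P.asIdeal.comap (algebraMap A E) = q0 →
      P = m := by
    intro P hle hPA
    have h := hbetween (P.asIdeal.comap mk.toRingHom) inferInstance (fun x hx => by
        rw [Ideal.mem_comap, show mk.toRingHom x = 0 from Ideal.Quotient.eq_zero_iff_mem.mpr hx]
        exact zero_mem _) (fun x hx => (hm x).mp (hle hx)) ((hQA P a).mpr (hPA.symm ▸ haq0))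
    refine PrimeSpectrum.ext ?_
    rw [← Ideal.map_comap_of_surjective mk.toRingHom Ideal.Quotient.mk_surjective P.asIdeal, h, ← hmC,
      Ideal.map_comap_of_surjective mk.toRingHom Ideal.Quotient.mk_surjective m.asIdeal]
  have hm_max : ∀ P : PrimeSpectrum E, m.asIdeal ≤ P.asIdeal → P.asIdeal.comap (algebraMap A E) = q0 →
      P = m := by
    intro P hle hPA
    have h := hMclosed (P.asIdeal.comap mk.toRingHom) inferInstance (fun x hx => hle ((hm x).mpr hx))
      (by ext x; rw [Ideal.mem_comap, hQA, hPA])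
    refine PrimeSpectrum.ext ?_
    rw [← Ideal.map_comap_of_surjective mk.toRingHom Ideal.Quotient.mk_surjective P.asIdeal, h,
      ← hmC, Ideal.map_comap_of_surjective mk.toRingHom Ideal.Quotient.mk_surjective m.asIdeal]
  haveI : Algebra.QuasiFiniteAt A m.asIdeal := by
    refine Algebra.QuasiFiniteAt.of_isOpen_singleton_fiber m ?_
    haveI : IsNoetherianRing E := Algebra.FiniteType.isNoetherianRing A E
    classical
    let I := q0.map (algebraMap A E)
    let S := (Ideal.finite_minimalPrimes_of_isNoetherianRing E I).toFinset.erase m.asIdeal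
    obtain ⟨g, hg, hgm⟩ : ∃ g, g ∈ S.inf id ∧ g ∉ m.asIdeal := by
      refine SetLike.not_le_iff_exists.mp fun hle => ?_
      obtain ⟨J, hJ, hJm⟩ := (Ideal.IsPrime.inf_le' m.2).mp hle
      rw [Finset.mem_erase, Set.Finite.mem_toFinset] at hJ
      refine hJ.1 (congrArg PrimeSpectrum.asIdeal (hm_min ⟨J, hJ.2.1.1⟩ hJm ?_))
      refine le_antisymm ?_ (Ideal.map_le_iff_le_comap.mp hJ.2.1.2)
      rw [← hmA]; exact Ideal.comap_mono hJm
    refine ⟨PrimeSpectrum.basicOpen g, (PrimeSpectrum.basicOpen g).isOpen, ?_⟩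
    ext ⟨P, hP⟩
    have hPA : P.asIdeal.comap (algebraMap A E) = q0 := (congrArg PrimeSpectrum.asIdeal hP).trans hmA
    simp only [Set.mem_preimage, SetLike.mem_coe, PrimeSpectrum.mem_basicOpen, Set.mem_singleton_iff,
      Subtype.mk.injEq]
    constructor
    · intro hgP
      obtain ⟨J, hJ, hJP⟩ := Ideal.exists_minimalPrimes_le (I := I) (J := P.asIdeal)
        (Ideal.map_le_iff_le_comap.mpr hPA.ge)
      rcases eq_or_ne J m.asIdeal with rfl | hne
      · exact hm_max P hJP hPA
      · exact absurd (hJP ((Finset.inf_le (f := id)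
          (Finset.mem_erase.mpr ⟨hne, (Set.Finite.mem_toFinset _).mpr hJ⟩) : S.inf id ≤ J) hg)) hgP
    · rintro rfl; exact hgm
  -- Zariski's main theorem
  obtain ⟨S', hS', r, hrm, hbij⟩ :=
    Algebra.QuasiFiniteAt.exists_fg_and_exists_notMem_and_awayMap_bijective (R := A) m.asIdeal
  haveI : Module.Finite A S' := ⟨(Submodule.fg_top _).mpr hS'⟩
  have hr0 : (r : E) ≠ 0 := fun h => hrm (h ▸ zero_mem _)
  have hpow : ∀ x : E, ∃ (k : ℕ) (y : S'), (y : E) = (r : E) ^ k * x := by
    intro x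
    obtain ⟨z, hz⟩ := hbij.2 (algebraMap E _ x)
    obtain ⟨y, ⟨_, k, rfl⟩, rfl⟩ := IsLocalization.exists_mk'_eq (Submonoid.powers r) z
    refine ⟨k, y, ?_⟩
    simp only [Localization.awayMap, IsLocalization.Away.map, IsLocalization.map_mk'] at hz
    rw [IsLocalization.mk'_eq_iff_eq_mul, ← map_mul] at hz
    have := IsLocalization.injective (M := Submonoid.powers (S'.val.toRingHom r))
      (Localization.Away (S'.val.toRingHom r))
      (powers_le_nonZeroDivisors_of_noZeroDivisors (by exact hr0)) hz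
    rw [mul_comm]
    simpa using this
  let ι : S' ⊗[A] B →ₐ[A] E ⊗[A] B := Algebra.TensorProduct.map S'.val (AlgHom.id A B)
  have hlift : ∀ z : E ⊗[A] B, ∃ (k : ℕ) (y : S' ⊗[A] B), ι y = (((r : E) ^ k) ⊗ₜ 1) * z := by
    intro z
    induction z using TensorProduct.induction_on with
    | zero => exact ⟨0, 0, by simp⟩
    | tmul x b =>
      obtain ⟨k, y, hy⟩ := hpow x
      exact ⟨k, y ⊗ₜ b, by simp [ι, hy]⟩
    | add x y hx hy =>
      obtain ⟨k, x', hx'⟩ := hx
      obtain ⟨l, y', hy'⟩ := hy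
      refine ⟨k + l, ((r ^ l) ⊗ₜ 1) * x' + ((r ^ k) ⊗ₜ 1) * y', ?_⟩
      rw [map_add, map_mul, map_mul, hx', hy',
        show ι ((r ^ l) ⊗ₜ 1) = ((r : E) ^ l) ⊗ₜ 1 by simp [ι],
        show ι ((r ^ k) ⊗ₜ 1) = ((r : E) ^ k) ⊗ₜ 1 by simp [ι],
        show ((r : E) ^ (k + l)) ⊗ₜ[A] (1 : B) = (((r : E) ^ k) ⊗ₜ 1) * (((r : E) ^ l) ⊗ₜ 1) by
          rw [Algebra.TensorProduct.tmul_mul_tmul, mul_one, pow_add]]
      ring
  obtain ⟨l, u', hu'⟩ := hlift (π u)
  obtain ⟨k, s', hs'⟩ := hpow (mk s)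
  have hkill : ι ((s' ⊗ₜ 1) * u') = 0 := by
    rw [map_mul, hu', show ι (s' ⊗ₜ 1) = π (s ⊗ₜ 1) * (((r : E) ^ k) ⊗ₜ 1) by simp [ι, π, hs', mul_comm]]
    calc _ = π ((s ⊗ₜ 1) * u) * ((((r : E) ^ k) ⊗ₜ 1) * (((r : E) ^ l) ⊗ₜ 1)) := by rw [map_mul]; ring
      _ = 0 := by rw [hsu, map_zero, zero_mul]
  obtain ⟨N, hN'⟩ : ∃ N, ((r ^ N) ⊗ₜ[A] (1 : B)) * ((s' ⊗ₜ 1) * u') = 0 := by
    let f := Algebra.linearMap S' (Localization.Away r)
    haveI : IsLocalizedModule (Submonoid.powers r) (AlgebraTensorModule.rTensor A B f) := inferInstance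
    let ej : Localization.Away r →ₐ[A] Localization.Away (r : E) := Localization.awayMapₐ S'.val r
    let ee : Localization.Away r ≃ₐ[A] Localization.Away (r : E) := AlgEquiv.ofBijective ej hbij
    let G := (TensorProduct.congr ee.toLinearEquiv (LinearEquiv.refl A B))
    have hcomm : ∀ v : S' ⊗[A] B, G (AlgebraTensorModule.rTensor A B f v) =
        Algebra.TensorProduct.map (IsScalarTower.toAlgHom A E (Localization.Away (r : E))) (AlgHom.id A B)
          (ι v) := by
      intro v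
      induction v using TensorProduct.induction_on with
      | zero => simp
      | tmul x b =>
        simp [G, ee, ej, f, ι, Localization.awayMapₐ, IsLocalization.Away.mapₐ, IsLocalization.Away.map]
        exact congrArg (· ⊗ₜ[A] b) (IsLocalization.map_eq (S := Localization.Away r) (M := Submonoid.powers r) (T := Submonoid.powers (r : E)) (Q := Localization.Away (r : E)) (by rintro _ ⟨n, rfl⟩; exact ⟨n, by simp⟩) x)
      | add x y hx hy => simp only [map_add, hx, hy]
    have h0 : AlgebraTensorModule.rTensor A B f ((s' ⊗ₜ 1) * u') = 0 :=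
      G.injective (by rw [hcomm, hkill, map_zero, map_zero])
    obtain ⟨⟨_, N, rfl⟩, hN⟩ := (IsLocalizedModule.eq_zero_iff (Submonoid.powers r) _).mp h0
    refine ⟨N, ?_⟩
    rw [← hN]
    show ((r ^ N) ⊗ₜ[A] (1 : B)) * _ = (r ^ N) • _
    generalize (s' ⊗ₜ[A] (1 : B)) * u' = v
    induction v using TensorProduct.induction_on with
    | zero => simp
    | tmul x b => simp [TensorProduct.smul_tmul']
    | add x y hx hy => simp [mul_add, hx, hy, smul_add]
  haveI : IsDomain S' := inferInstance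
  have hnil : u' ∈ RingHom.ker (θ.comp ι).toRingHom := by
    refine hN S' (r ^ N * s') u' (mul_ne_zero (pow_ne_zero _ fun h => hr0 (congrArg Subtype.val h)) ?_) ?_
      _ (RingHom.ker_isPrime _) ?_
    rotate_left 2
    · rw [← hMp]
      ext b
      show θ (ι ((1 : S') ⊗ₜ[A] b)) = 0 ↔ (1 : C) ⊗ₜ[A] b ∈ M
      rw [show θ (ι ((1 : S') ⊗ₜ[A] b)) = χ ((1 : C) ⊗ₜ[A] b) by simp [θ, ι]]
      exact Ideal.algebraMap_residueField_eq_zero
    · intro h
      refine htQc (Ideal.mul_mem_left _ _ (Ideal.Quotient.eq_zero_iff_mem.mp ?_))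
      have : (r : E) ^ k * mk s = 0 := by rw [← hs', h]; rfl
      exact (mul_eq_zero.mp this).resolve_left (pow_ne_zero _ hr0)
    · rw [show (r ^ N * s') ⊗ₜ[A] (1 : B) = ((r ^ N) ⊗ₜ 1) * (s' ⊗ₜ 1) by simp, mul_assoc, hN']
  have h0 : θ (ι u') = 0 := hnil
  rw [hu', map_mul, show θ (π u) = χ u from AlgHom.congr_fun hθπ u] at h0
  refine (mul_eq_zero.mp h0).elim (fun h => hrm ?_) hχu
  rw [show θ (((r : E) ^ l) ⊗ₜ[A] (1 : B)) = χE ((r : E) ^ l) by
    simp [θ, ← Algebra.TensorProduct.one_def], map_pow] at h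
  exact eq_zero_of_pow_eq_zero h

/-- Reduction to finitely generated domains. -/
theorem torAt_of_finiteType {p : Ideal B}
    (h : ∀ (D : Type u) [CommRing D] [IsDomain D] [Algebra A D] [Algebra.FiniteType A D], TorAt (A := A) p D)
    [IsDomain C] : TorAt (A := A) p C := by
  classical
  intro s u hs hsu P hP hPp
  obtain ⟨C0, hC0, u0, hu0⟩ := TensorProduct.Algebra.exists_of_fg (R := A) u
  let C1 := C0 ⊔ Algebra.adjoin A {s}
  have hC1 : C1.FG := hC0.sup (Subalgebra.fg_def.mpr ⟨{s}, Set.finite_singleton s, rfl⟩)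
  let s1 : C1 := ⟨s, (le_sup_right : Algebra.adjoin A {s} ≤ C1) (Algebra.self_mem_adjoin_singleton A s)⟩
  let i1 : C0 ⊗[A] B →ₐ[A] C1 ⊗[A] B :=
    Algebra.TensorProduct.map (Subalgebra.inclusion le_sup_left) (AlgHom.id A B)
  let v1 : C1 ⊗[A] B := (s1 ⊗ₜ 1) * i1 u0
  let j1 : C1 ⊗[A] B →ₐ[A] C ⊗[A] B := Algebra.TensorProduct.map C1.val (AlgHom.id A B)
  have hcast : ∀ (S : Subalgebra A C) (v : S ⊗[A] B),
      Algebra.TensorProduct.map S.val (AlgHom.id A B) v = LinearMap.rTensor B S.val.toLinearMap v :=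
    fun S v => rfl
  have hi : j1 (i1 u0) = u := by
    rw [← hu0, ← AlgHom.comp_apply, ← Algebra.TensorProduct.map_comp, AlgHom.comp_id]
    exact hcast C0 u0
  have h0 : LinearMap.rTensor B C1.val.toLinearMap v1 = LinearMap.rTensor B C1.val.toLinearMap 0 := by
    rw [map_zero, ← hcast, show Algebra.TensorProduct.map C1.val (AlgHom.id A B) v1 =
      j1 (s1 ⊗ₜ 1) * j1 (i1 u0) from map_mul j1 _ _, hi]
    simpa [j1] using hsu
  obtain ⟨C2, h12, hC2, h2⟩ := TensorProduct.Algebra.eq_of_fg_of_subtype_eq hC1 h0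
  rw [map_zero] at h2
  haveI : Algebra.FiniteType A C2 := (Subalgebra.fg_iff_finiteType C2).mp hC2
  let i2 : C1 ⊗[A] B →ₐ[A] C2 ⊗[A] B := Algebra.TensorProduct.map (Subalgebra.inclusion h12) (AlgHom.id A B)
  have h2' : i2 v1 = 0 := h2
  rw [map_mul] at h2'
  let j2 : C2 ⊗[A] B →ₐ[A] C ⊗[A] B := Algebra.TensorProduct.map C2.val (AlgHom.id A B)
  have hn := h C2 (Subalgebra.inclusion h12 s1) (i2 (i1 u0)) (fun h => hs (congrArg Subtype.val h))
    (by simpa [i2] using h2') (P.comap j2.toRingHom) inferInstance (by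
      rw [Ideal.comap_comap, show j2.toRingHom.comp (inr A B C2) = inr A B C from
        RingHom.ext fun x => by simp [j2]]
      exact hPp)
  have e : u = j2 (i2 (i1 u0)) := by
    rw [← hi, ← AlgHom.comp_apply _ i2, ← Algebra.TensorProduct.map_comp, AlgHom.comp_id]
    rfl
  rw [e]
  exact hn

/-- Reduction to discrete valuation rings. -/
theorem torAt_finiteType_of_dvr [IsNoetherianRing A] {p : Ideal B}
    (hN : ∀ (D : Type u) [CommRing D] [IsDomain D] [IsDiscreteValuationRing D] [Algebra A D]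
      (s : D) (u : D ⊗[A] B), s ≠ 0 → (s ⊗ₜ[A] (1 : B)) * u = 0 → ∀ P : Ideal (D ⊗[A] B), P.IsPrime →
        P.comap (inr A B D) = p → P.comap (inl A B D) = IsLocalRing.maximalIdeal D → u ∈ P)
    [IsDomain C] [Algebra.FiniteType A C] : TorAt (A := A) p C := by
  intro s u hs hsu P hP hPp
  by_contra hu
  set Q := P.comap (inl A B C) with hQ
  have hsQ : s ∈ Q := by
    have h1 : (s ⊗ₜ[A] (1 : B)) * u ∈ P := hsu ▸ P.zero_mem
    exact (hP.mem_or_mem h1).resolve_right hu
  haveI : IsNoetherianRing C := Algebra.FiniteType.isNoetherianRing A C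
  set D₀ := Localization.AtPrime Q
  haveI : IsDomain D₀ := IsLocalization.isDomain_localization Q.primeCompl_le_nonZeroDivisors
  haveI : IsNoetherianRing D₀ := IsLocalization.isNoetherianRing Q.primeCompl D₀ inferInstance
  have hinj0 := IsLocalization.injective D₀ Q.primeCompl_le_nonZeroDivisors
  let L := FractionRing C
  let toL : D₀ →+* L := IsLocalization.lift (M := Q.primeCompl) (g := algebraMap C L) fun y =>
    isUnit_iff_ne_zero.2 (IsFractionRing.to_map_ne_zero_of_mem_nonZeroDivisors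
      (mem_nonZeroDivisors_of_ne_zero fun h => y.2 (by rw [h]; exact Q.zero_mem)))
  letI := toL.toAlgebra
  have htoL : Function.Injective toL := by
    rw [IsLocalization.lift_injective_iff]
    intro x y
    rw [hinj0.eq_iff, (IsFractionRing.injective C L).eq_iff]
  have hD₀ : ¬ IsField D₀ := fun hf => by
    have h2 : algebraMap C D₀ s ∈ IsLocalRing.maximalIdeal D₀ :=
      (IsLocalization.AtPrime.to_map_mem_maximal_iff D₀ Q _).2 hsQ
    rw [IsLocalRing.isField_iff_maximalIdeal_eq.1 hf, Ideal.mem_bot, map_eq_zero_iff _ hinj0] at h2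
    exact hs h2
  obtain ⟨O, hO, hAO, hmO⟩ := DvrDom.exists_dvr (L := L) D₀ hD₀ htoL ∅ (by
    rw [Finset.coe_empty, Set.union_empty, eq_top_iff]
    intro z _
    obtain ⟨a, b, -, rfl⟩ := IsFractionRing.div_surjective (A := C) z
    exact div_mem (Subfield.subset_closure ⟨algebraMap C D₀ a, IsLocalization.lift_eq _ _⟩)
      (Subfield.subset_closure ⟨algebraMap C D₀ b, IsLocalization.lift_eq _ _⟩))
  let φ : C →+* O := (toL.codRestrict O.toSubring hAO).comp (algebraMap C D₀)
  letI : Algebra A O := (φ.comp (algebraMap A C)).toAlgebra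
  let φA : C →ₐ[A] O := { φ with commutes' := fun _ => rfl }
  have hφ : Function.Injective φ := fun x y h => by
    refine hinj0 (htoL ?_)
    exact congrArg Subtype.val h
  have hφQ : Q = (IsLocalRing.maximalIdeal O).comap φ := by
    refine le_antisymm (fun c hc => ?_) fun c hc => ?_
    · exact (O.valuation_lt_one_iff (φ c)).2
        (hmO _ ((IsLocalization.AtPrime.to_map_mem_maximal_iff D₀ Q _).2 hc))
    · by_contra hcQ
      exact (IsLocalRing.notMem_maximalIdeal.2 (((IsLocalization.map_units D₀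
        (⟨c, hcQ⟩ : Q.primeCompl)).map (toL.codRestrict O.toSubring hAO)))) hc
  let a : Q.ResidueField →+* (IsLocalRing.maximalIdeal O).ResidueField :=
    Ideal.ResidueField.map Q (IsLocalRing.maximalIdeal O) φ hφQ
  let b : Q.ResidueField →+* P.ResidueField := Ideal.ResidueField.map Q P (inl A B C) hQ
  obtain ⟨K, _, σO, σP, hσ⟩ := exists_field_amalgam a b
  let η : C ⊗[A] B →ₐ[A] P.ResidueField := IsScalarTower.toAlgHom A _ _
  let σ₀ : O →+* K := σO.comp (algebraMap O (IsLocalRing.maximalIdeal O).ResidueField)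
  letI : Algebra A K := (σ₀.comp (algebraMap A O)).toAlgebra
  let σO' : O →ₐ[A] K := { σ₀ with commutes' := fun _ => rfl }
  have hagree : ∀ c : C, σ₀ (φ c) = σP (η (c ⊗ₜ[A] (1 : B))) := fun c => by
    refine (congrArg σO (Ideal.ResidueField.map_algebraMap _ _ _ hφQ c).symm).trans ((hσ _).trans ?_)
    exact congrArg σP (Ideal.ResidueField.map_algebraMap _ _ _ hQ c)
  let σP' : P.ResidueField →ₐ[A] K :=
    { σP with
      commutes' := fun x => by
        show σP (algebraMap A P.ResidueField x) = σ₀ (φ (algebraMap A C x))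
        rw [hagree, ← η.commutes]
        rfl }
  let χ : O ⊗[A] B →ₐ[A] K := Algebra.TensorProduct.lift σO'
    (σP'.comp (η.comp Algebra.TensorProduct.includeRight)) fun _ _ => .all _ _
  let μ : C ⊗[A] B →ₐ[A] O ⊗[A] B := Algebra.TensorProduct.map φA (AlgHom.id A B)
  have hfac : χ.comp μ = σP'.comp η := by
    refine Algebra.TensorProduct.ext (AlgHom.ext fun x => ?_) (AlgHom.ext fun x => ?_)
    · simpa [χ, μ, σO', σP', φA, ← Algebra.TensorProduct.one_def] using hagree x
    · simp [χ, μ, σP']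
  have h1 := hN O (φ s) (μ u) ((map_ne_zero_iff _ hφ).2 hs) (by
      have := congrArg μ hsu
      rwa [map_mul, map_zero, show μ (s ⊗ₜ 1) = φ s ⊗ₜ 1 by simp [μ, φA]] at this)
    (RingHom.ker χ.toRingHom) (RingHom.ker_isPrime _) (by
      rw [← hPp]
      ext x
      show χ ((1 : O) ⊗ₜ[A] x) = 0 ↔ (1 : C) ⊗ₜ[A] x ∈ P
      rw [show χ ((1 : O) ⊗ₜ[A] x) = σP (η ((1 : C) ⊗ₜ[A] x)) by simp [χ, σP'], map_eq_zero]
      exact Ideal.algebraMap_residueField_eq_zero) (by
      ext x
      show χ (x ⊗ₜ[A] (1 : B)) = 0 ↔ _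
      rw [show χ (x ⊗ₜ[A] (1 : B)) = σ₀ x by simp [χ, σO', ← Algebra.TensorProduct.one_def]]
      exact (map_eq_zero σO).trans Ideal.algebraMap_residueField_eq_zero)
  have h2 : σP (η u) = 0 := (AlgHom.congr_fun hfac u).symm.trans h1
  exact hu (Ideal.algebraMap_residueField_eq_zero.1 ((map_eq_zero σP).1 h2))

/-- Going down at a point after any base change. -/
theorem exists_le_comap_eq {p : Ideal B} {Q : Ideal C} [Q.IsPrime] (hQ' : TorAt (A := A) p (C ⧸ Q))
    (P : Ideal (C ⊗[A] B)) [P.IsPrime] (hPp : P.comap (inr A B C) = p) (hQ : Q ≤ P.comap (inl A B C)) :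
    ∃ P' : Ideal (C ⊗[A] B), P'.IsPrime ∧ P' ≤ P ∧ P'.comap (inl A B C) = Q := by
  let Qe := Q.map (inl A B C)
  let T : Submonoid (C ⊗[A] B) := Q.primeCompl.map (inl A B C) ⊔ P.primeCompl
  by_cases hd : Disjoint (Qe : Set (C ⊗[A] B)) T
  · obtain ⟨P', hP', hle, hdis⟩ := Ideal.exists_le_prime_disjoint Qe T hd
    refine ⟨P', hP', fun x hx => by_contra fun hxP =>
      Set.disjoint_left.mp hdis hx ((le_sup_right : P.primeCompl ≤ T) hxP), le_antisymm (fun c hc => ?_) ?_⟩
    · by_contra hcQ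
      exact Set.disjoint_left.mp hdis hc ((le_sup_left : Q.primeCompl.map (inl A B C) ≤ T) ⟨c, hcQ, rfl⟩)
    · exact Ideal.map_le_iff_le_comap.mp hle
  exfalso
  obtain ⟨x, hxQ, hxT⟩ := Set.not_disjoint_iff.mp hd
  obtain ⟨_, ⟨c, hc, rfl⟩, v, hv, rfl⟩ := Submonoid.mem_sup.mp hxT
  let π : C ⊗[A] B →ₐ[A] (C ⧸ Q) ⊗[A] B :=
    Algebra.TensorProduct.map (Ideal.Quotient.mkₐ A Q) (AlgHom.id A B)
  have hπ : Function.Surjective π.toRingHom :=
    Algebra.TensorProduct.map_surjective _ _ Ideal.Quotient.mk_surjective fun b => ⟨b, rfl⟩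
  have hker : RingHom.ker π.toRingHom = Qe := by
    have := Algebra.TensorProduct.rTensor_ker (R := A) (C := B) (Ideal.Quotient.mkₐ A Q)
      Ideal.Quotient.mk_surjective
    rw [show RingHom.ker (Ideal.Quotient.mkₐ A Q) = Q from Ideal.mk_ker] at this
    exact this
  have hkerP : RingHom.ker π.toRingHom ≤ P := hker.le.trans (Ideal.map_le_iff_le_comap.2 hQ)
  have hback : (P.map π.toRingHom).comap π.toRingHom = P := by
    rw [Ideal.comap_map_of_surjective' _ hπ, sup_eq_left]
    exact hkerP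
  have hprime := Ideal.map_isPrime_of_surjective hπ hkerP
  have h0 : π (inl A B C c * v) = 0 := (hker.ge hxQ : _)
  rw [map_mul] at h0
  have hmem := hQ' (Ideal.Quotient.mk Q c) (π v) (fun h => hc (Ideal.Quotient.eq_zero_iff_mem.mp h))
    (by rw [← h0]; simp [π, inl]) (P.map π.toRingHom) hprime (by
      rw [show inr A B (C ⧸ Q) = π.toRingHom.comp (inr A B C) from RingHom.ext fun b => by simp [π],
        ← Ideal.comap_comap, hback]
      exact hPp)
  exact hv (hback.le hmem)

/-- A constructible set containing all generalisations of a point is a neighbourhood of it. -/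
theorem mem_nhds_of_isConstructible {R : Type u} [CommRing R] {s : Set (PrimeSpectrum R)}
    (hs : Topology.IsConstructible s) {q : PrimeSpectrum R} (h : ∀ q' ≤ q, q' ∈ s) : s ∈ nhds q := by
  obtain ⟨S, _, f, hf⟩ := PrimeSpectrum.exists_range_eq_of_isConstructible hs.compl
  by_contra hq
  have h1 : q ∈ closure sᶜ := by
    rw [closure_compl]
    exact fun hi => hq (mem_interior_iff_mem_nhds.1 hi)
  rw [← hf, PrimeSpectrum.closure_range_comap, PrimeSpectrum.mem_zeroLocus, SetLike.coe_subset_coe] at h1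
  obtain ⟨m, hm, hmq⟩ := Ideal.exists_minimalPrimes_le h1
  obtain ⟨p', hp', -, hp'm⟩ := Ideal.exists_comap_eq_of_mem_minimalPrimes f (I := ⊥) m hm
  have h2 : (⟨m, hm.1.1⟩ : PrimeSpectrum R) ∈ sᶜ := hf.subset ⟨⟨p', hp'⟩, PrimeSpectrum.ext hp'm⟩
  exact h2 (h _ hmq)

end Groth.Agent.UnivOpenAt
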