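import Mathlib
import Groth.Agent.CohenStruct.Existence
import Groth.Agent.S2363
import Groth.Agent.S0568
import Groth.Agent.S0544
import Groth.Agent.ChevAffine.Semilocal
import Groth.Agent.HenselLib.Ops
import Groth.Agent.NagataLib.Basic

/-!
# Lifting points along finite extensions of complete discrete valuation rings
-/

set_option autoImplicit false
set_option linter.style.haveILetI false
set_option backward.isDefEq.respectTransparency false
set_option maxHeartbeats 1000000
set_option synthInstance.maxHeartbeats 200000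

universe u

namespace Groth.Agent.UnivOpenAt.DvrLift

open IsLocalRing

/-- A discrete valuation ring extends to a complete one with a prescribed residue field. -/
theorem exists_complete_extension (A : Type u) [CommRing A] [IsDomain A] [IsDiscreteValuationRing A]
    (K : Type u) [Field K] [Algebra (ResidueField A) K] :
    ∃ (A' : Type u) (_ : CommRing A') (_ : IsDomain A') (_ : IsDiscreteValuationRing A')
      (_ : IsAdicComplete (maximalIdeal A') A') (ψ : A →+* A') (e : ResidueField A' ≃+* K),
      Function.Injective ψ ∧ IsLocalHom ψ ∧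
      ∀ a, e (residue A' (ψ a)) = algebraMap (ResidueField A) K (residue A a) := by
  obtain ⟨ϖ, hϖ⟩ := IsDiscreteValuationRing.exists_irreducible A
  have hmA : maximalIdeal A = Ideal.span {ϖ} := hϖ.maximalIdeal_eq
  obtain ⟨B, _, _, hBN, hBL, hBloc, hflat, e, he⟩ := Groth.Agent.S2363.result (A := A) K
  have hM : ((maximalIdeal A).map (algebraMap A B)).IsMaximal :=
    Ideal.Quotient.maximal_of_isField _ (MulEquiv.isField (Field.toIsField K) e.toMulEquiv)
  have hMB : maximalIdeal B = Ideal.span {algebraMap A B ϖ} := by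
    rw [← eq_maximalIdeal hM, hmA, Ideal.map_span, Set.image_singleton]
  have hpB : algebraMap A B ϖ ∈ nonZeroDivisors B := by
    have h2 : IsSMulRegular B ϖ := Module.Flat.isSMulRegular_of_isRegular (IsRegular.of_ne_zero hϖ.ne_zero)
    rw [mem_nonZeroDivisors_iff_right]
    intro a ha
    apply h2
    simpa [Algebra.smul_def, mul_comm] using ha
  obtain ⟨_, _⟩ := CohenStruct.isDomain_and_dvr_of_span_eq _ hpB hMB
  let Λ := AdicCompletion (maximalIdeal B) B
  have hmΛ : maximalIdeal Λ = Ideal.span {algebraMap B Λ (algebraMap A B ϖ)} := by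
    refine AdicCompletion.maximalIdeal_eq_map.trans ?_
    exact (congrArg (Ideal.map (algebraMap B Λ)) hMB).trans (by rw [Ideal.map_span, Set.image_singleton])
  have hpΛ : algebraMap B Λ (algebraMap A B ϖ) ∈ nonZeroDivisors Λ := by
    have h2 : IsSMulRegular Λ (algebraMap A B ϖ) :=
      Module.Flat.isSMulRegular_of_isRegular (isRegular_iff_mem_nonZeroDivisors.mpr hpB)
    rw [mem_nonZeroDivisors_iff_right]
    intro a ha
    apply h2
    simpa [Algebra.smul_def, mul_comm] using ha
  haveI : IsNoetherianRing Λ := by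
    have hfg : (maximalIdeal Λ).FG := hmΛ ▸ Submodule.fg_span_singleton _
    have : IsNoetherianRing (Λ ⧸ maximalIdeal Λ) := by
      let := Ideal.Quotient.field (maximalIdeal Λ)
      infer_instance
    exact AdicLim.isNoetherianRing_of_isAdicComplete hfg
  obtain ⟨_, _⟩ := CohenStruct.isDomain_and_dvr_of_span_eq _ hpΛ hmΛ
  let ψ : A →+* Λ := (algebraMap B Λ).comp (algebraMap A B)
  let e₁ : ResidueField B ≃+* K := (Ideal.quotEquivOfEq (eq_maximalIdeal hM).symm).trans e
  let e₂ : ResidueField Λ ≃+* K :=
    (RingEquiv.ofBijective _ (AdicCompletion.residueField_map_bijective B)).symm.trans e₁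
  haveI hloc : IsLocalHom ψ :=
    haveI : IsLocalHom (algebraMap B Λ) := ((IsLocalRing.local_hom_TFAE (algebraMap B Λ)).out 0 2).mpr
      (((congrArg (Ideal.map (algebraMap B Λ)) hMB).trans
        (by rw [Ideal.map_span, Set.image_singleton])).trans hmΛ.symm).le
    inferInstanceAs (IsLocalHom ((algebraMap B Λ).comp (algebraMap A B)))
  refine ⟨Λ, inferInstance, inferInstance, inferInstance, inferInstance, ψ, e₂, ?_, hloc, fun a => ?_⟩
  · rw [RingHom.injective_iff_ker_eq_bot]
    by_contra hne
    have hkm : RingHom.ker ψ = maximalIdeal A :=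
      eq_maximalIdeal ((RingHom.ker_isPrime ψ).isMaximal hne)
    have h0 : ψ ϖ = 0 := hkm.ge (hmA ▸ Ideal.mem_span_singleton_self ϖ)
    exact nonZeroDivisors.ne_zero hpΛ h0
  · show e₁ ((RingEquiv.ofBijective _ (AdicCompletion.residueField_map_bijective B)).symm
      (residue Λ (algebraMap B Λ (algebraMap A B a)))) = _
    rw [← he a, show (RingEquiv.ofBijective _ (AdicCompletion.residueField_map_bijective B)).symm
      (residue Λ (algebraMap B Λ (algebraMap A B a))) = residue B (algebraMap A B a) from ?_]
    · rfl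
    · rw [RingEquiv.symm_apply_eq]
      rfl

/-- A prime maximal among those below a given one and avoiding an element cuts out a one-dimensional
ring. -/
theorem height_maximalIdeal_le_one {D : Type u} [CommRing D] [IsDomain D] [IsLocalRing D] [IsNoetherianRing D]
    {ϖ : D} (hϖ0 : ϖ ≠ 0) (h : ∀ P : Ideal D, P.IsPrime → P ≠ ⊥ → ϖ ∈ P) : (maximalIdeal D).height ≤ 1 := by
  classical
  by_cases hm : maximalIdeal D = ⊥
  · rw [hm, Ideal.height_bot]; exact zero_le
  have hϖ : ϖ ∈ maximalIdeal D := h _ inferInstance hm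
  have hmin : ∀ P ∈ (Ideal.span {ϖ}).minimalPrimes, P.height ≤ 1 := fun P hP =>
    Ideal.height_le_one_of_isPrincipal_of_mem_minimalPrimes _ _ hP
  have hfin : (Ideal.span {ϖ}).minimalPrimes.Finite := Ideal.finite_minimalPrimes_of_isNoetherianRing _ _
  have hsub : (maximalIdeal D : Set D) ⊆ ⋃ P ∈ (hfin.toFinset : Set (Ideal D)), (P : Set D) := by
    intro y hy
    by_cases hy0 : y = 0
    · obtain ⟨P, hP, -⟩ := Ideal.exists_minimalPrimes_le (I := Ideal.span {ϖ}) (J := maximalIdeal D)
        (by rw [Ideal.span_le, Set.singleton_subset_iff]; exact hϖ)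
      exact Set.mem_biUnion (hfin.mem_toFinset.2 hP) (hy0 ▸ P.zero_mem)
    obtain ⟨P, hP, -⟩ := Ideal.exists_minimalPrimes_le (I := Ideal.span {y}) (J := maximalIdeal D)
      (by rw [Ideal.span_le, Set.singleton_subset_iff]; exact hy)
    haveI := hP.isPrime
    have hyP : y ∈ P := hP.1.2 (Ideal.mem_span_singleton_self y)
    have hPne : P ≠ ⊥ := fun h' => hy0 (by rw [h'] at hyP; exact hyP)
    obtain ⟨Q, hQ, hQP⟩ := Ideal.exists_minimalPrimes_le (I := Ideal.span {ϖ}) (J := P)
      (by rw [Ideal.span_le, Set.singleton_subset_iff]; exact h P inferInstance hPne)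
    haveI := hQ.isPrime
    have hQne : Q ≠ ⊥ := fun h' => hϖ0 (by
      have := hQ.1.2 (Ideal.mem_span_singleton_self ϖ)
      rw [h'] at this; exact this)
    have heq : Q = P := by
      by_contra hne
      have h1 : Q.height + 1 ≤ P.height :=
        Order.add_one_le_of_lt (Ideal.height_strict_mono_of_isPrime (lt_of_le_of_ne hQP hne))
      have h2 : (⊥ : Ideal D).height + 1 ≤ Q.height :=
        Order.add_one_le_of_lt (Ideal.height_strict_mono_of_isPrime (bot_lt_iff_ne_bot.2 hQne))
      rw [Ideal.height_bot, zero_add] at h2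
      have h3 := (add_le_add_left h2 1).trans (h1.trans (Ideal.height_le_one_of_isPrincipal_of_mem_minimalPrimes _ _ hP))
      exact absurd h3 (by decide)
    exact Set.mem_biUnion (hfin.mem_toFinset.2 hQ) (heq ▸ hyP)
  obtain ⟨P, hP, hle⟩ := (Ideal.subset_union_prime (f := id) ⊥ ⊥ fun i hi _ _ => (hfin.mem_toFinset.1 hi).isPrime).1 hsub
  have hP' := hfin.mem_toFinset.1 hP
  exact (Ideal.height_mono hle).trans (hmin _ hP')

/-- A finite domain over a complete discrete valuation ring maps into a finite discrete valuation ring. -/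
theorem exists_dvr_of_finite (A : Type u) [CommRing A] [IsDomain A] [IsDiscreteValuationRing A]
    [IsAdicComplete (maximalIdeal A) A]
    (D : Type u) [CommRing D] [IsDomain D] [IsLocalRing D] [Algebra A D] [Module.Finite A D]
    (hinjA : Function.Injective (algebraMap A D))
    (hAm : ∀ a ∈ maximalIdeal A, algebraMap A D a ∈ maximalIdeal D) :
    ∃ (B : Type u) (_ : CommRing B) (_ : IsDomain B) (_ : IsDiscreteValuationRing B) (φ : A →+* B)
      (_ : IsLocalHom φ) (j : D →+* B),
      φ.Finite ∧ j.comp (algebraMap A D) = φ ∧ ∀ z ∈ maximalIdeal D, j z ∈ maximalIdeal B := by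
  classical
  obtain ⟨ϖ, hϖ⟩ := IsDiscreteValuationRing.exists_irreducible A
  let L := FractionRing D
  let K := FractionRing A
  haveI : FaithfulSMul A L := by
    rw [faithfulSMul_iff_algebraMap_injective, IsScalarTower.algebraMap_eq A D L]
    exact (IsFractionRing.injective D L).comp hinjA
  letI : Algebra K L := FractionRing.liftAlgebra A L
  haveI : IsScalarTower A K L := inferInstance
  haveI : FiniteDimensional K L := by
    obtain ⟨G, hG⟩ := (inferInstance : Module.Finite A D).fg_top
    let G' : Set L := algebraMap D L '' (G : Set D)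
    haveI : Finite G' := (Set.Finite.image _ G.finite_toSet).to_subtype
    haveI : FiniteDimensional K (IntermediateField.adjoin K G') := IntermediateField.finiteDimensional_adjoin
      (by
        rintro _ ⟨g, -, rfl⟩
        exact ((Algebra.IsIntegral.isIntegral (R := A) g).map (IsScalarTower.toAlgHom A D L)).tower_top)
    have hmem : ∀ d : D, algebraMap D L d ∈ IntermediateField.adjoin K G' := fun d => by
      have hd : d ∈ Submodule.span A (G : Set D) := hG ▸ trivial
      induction hd using Submodule.span_induction with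
      | mem g hg => exact IntermediateField.subset_adjoin _ _ ⟨g, hg, rfl⟩
      | zero => rw [map_zero]; exact zero_mem _
      | add a b _ _ ha hb => rw [map_add]; exact add_mem ha hb
      | smul a g _ hg =>
        rw [Algebra.smul_def, map_mul, ← IsScalarTower.algebraMap_apply, IsScalarTower.algebraMap_apply A K L]
        exact mul_mem (IntermediateField.algebraMap_mem _ _) hg
    have htop : IntermediateField.adjoin K G' = ⊤ := eq_top_iff.2 fun l _ => by
      obtain ⟨c, s, -, rfl⟩ := IsFractionRing.div_surjective D l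
      exact div_mem (hmem c) (hmem s)
    exact (htop ▸ IntermediateField.topEquiv (F := K) (E := L)).toLinearEquiv.finiteDimensional
  let B := integralClosure A L
  haveI : IsNoetherianRing A := inferInstance
  have hN2 : CAlg.IsN2 A := by
    have h := (Groth.Agent.S0568.result A).2 (⊥ : Ideal A)
    letI : Algebra (A ⧸ (⊥ : Ideal A)) A := (RingEquiv.quotientBot A).toRingHom.toAlgebra
    haveI : Module.Finite (A ⧸ (⊥ : Ideal A)) A :=
      Module.Finite.of_surjective (Algebra.linearMap (A ⧸ (⊥ : Ideal A)) A) (RingEquiv.quotientBot A).surjective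
    exact NagataLib.isN2_of_finite (RingEquiv.quotientBot A).injective h
  haveI : Module.Finite A B := NagataLib.finite_integralClosure_of_isN2 hN2 K L
  haveI : IsNoetherianRing B := Algebra.FiniteType.isNoetherianRing A B
  haveI : HenselianLocalRing A := HenselLib.henselianLocalRing_of_henselianRing
  haveI : IsLocalRing B := ChevAffine.isLocalRing_of_henselian_of_isIntegral A B
  haveI : IsIntegrallyClosed B := integralClosure.isIntegrallyClosedOfFiniteExtension K
  haveI : Ring.DimensionLEOne B := Ring.DimensionLEOne.integralClosure A L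
  haveI : IsDedekindDomain B := { }
  let φ : A →+* B := algebraMap A B
  have hφfin : φ.Finite := RingHom.finite_algebraMap.2 inferInstance
  haveI : IsLocalHom φ := RingHom.IsIntegral.isLocalHom (Algebra.IsIntegral.isIntegral (R := A) (A := B))
    (by
      intro a b h
      have := congrArg (algebraMap B L) h
      rw [← IsScalarTower.algebraMap_apply, ← IsScalarTower.algebraMap_apply] at this
      exact FaithfulSMul.algebraMap_injective A L this)
  have hnf : ¬ IsField B := fun hf => by
    have h1 : φ ϖ ∈ maximalIdeal B := fun hu => hϖ.not_isUnit (isUnit_of_map_unit φ ϖ hu)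
    rw [isField_iff_maximalIdeal_eq.1 hf] at h1
    exact (map_ne_zero_iff φ (fun a b h => FaithfulSMul.algebraMap_injective A L (congrArg Subtype.val h))).2 hϖ.ne_zero h1
  haveI : IsDiscreteValuationRing B := ((IsDiscreteValuationRing.TFAE B hnf).out 2 0).1 (‹IsDedekindDomain B›)
  let j : D →ₐ[A] B := (IsScalarTower.toAlgHom A D L).codRestrict B fun d =>
    (Algebra.IsIntegral.isIntegral (R := A) d).map (IsScalarTower.toAlgHom A D L)
  haveI : IsLocalHom (j : D →+* B) := by
    haveI : IsLocalHom (algebraMap A D) := ⟨fun a ha => by_contra fun hn => hAm a hn ha⟩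
    refine RingHom.IsIntegral.isLocalHom (fun b => ?_) (fun a b h => IsFractionRing.injective D L (congrArg Subtype.val h))
    obtain ⟨P, hP, hPb⟩ := Algebra.IsIntegral.isIntegral (R := A) b
    refine ⟨P.map (algebraMap A D), hP.map _, ?_⟩
    rw [Polynomial.eval₂_map, show (j : D →+* B).comp (algebraMap A D) = algebraMap A B from j.comp_algebraMap]
    exact hPb
  exact ⟨B, inferInstance, inferInstance, inferInstance, φ, inferInstance, (j : D →+* B), hφfin,
    j.comp_algebraMap, fun z hz => map_nonunit (j : D →+* B) z hz⟩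

/-- **Finite discrete valuation rings through a generisation.** -/
theorem exists_finite_dvr (A : Type u) [CommRing A] [IsDomain A] [IsDiscreteValuationRing A]
    [IsAdicComplete (maximalIdeal A) A] [IsAlgClosed (ResidueField A)]
    (R : Type u) [CommRing R] [Algebra A R] [Algebra.FiniteType A R] (q r : Ideal R) [q.IsPrime] [r.IsPrime]
    (hle : r ≤ q) (hq : (maximalIdeal A).map (algebraMap A R) ≤ q)
    (hsurj : ∀ z : R, ∃ a : A, z - algebraMap A R a ∈ q) (hr : r.comap (algebraMap A R) = ⊥) :
    ∃ (B : Type u) (_ : CommRing B) (_ : IsDomain B) (_ : IsDiscreteValuationRing B) (φ : A →+* B)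
      (_ : IsLocalHom φ) (ψ : R →+* B),
      φ.Finite ∧ ψ.comp (algebraMap A R) = φ ∧ ∀ z ∈ q, ψ z ∈ maximalIdeal B := by
  classical
  obtain ⟨ϖ, hϖ⟩ := IsDiscreteValuationRing.exists_irreducible A
  have hmA : maximalIdeal A = Ideal.span {ϖ} := hϖ.maximalIdeal_eq
  haveI : IsNoetherianRing R := Algebra.FiniteType.isNoetherianRing A R
  let p₀ := algebraMap A R ϖ
  obtain ⟨r', ⟨hr'p, hr'q, hrr', hϖr'⟩, hmax⟩ := set_has_maximal_iff_noetherian.2 (inferInstance : IsNoetherianRing R)
    {P : Ideal R | P.IsPrime ∧ P ≤ q ∧ r ≤ P ∧ p₀ ∉ P}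
    ⟨r, inferInstance, hle, le_rfl, fun h => hϖ.ne_zero (hr.le h)⟩
  haveI := hr'p
  let R₁ := R ⧸ r'
  let mk : R →+* R₁ := Ideal.Quotient.mk r'
  let q₁ : Ideal R₁ := q.map mk
  haveI : q₁.IsPrime := Ideal.map_isPrime_of_surjective Ideal.Quotient.mk_surjective (Ideal.mk_ker.trans_le hr'q)
  have hq₁ : q₁.comap mk = q := by
    rw [Ideal.comap_map_of_surjective _ Ideal.Quotient.mk_surjective, ← RingHom.ker_eq_comap_bot, Ideal.mk_ker,
      sup_eq_left.2 hr'q]
  let D := Localization.AtPrime q₁
  haveI : IsDomain D := IsLocalization.isDomain_localization q₁.primeCompl_le_nonZeroDivisors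
  haveI : IsNoetherianRing D := IsLocalization.isNoetherianRing q₁.primeCompl D inferInstance
  let ι : R →+* D := (algebraMap R₁ D).comp mk
  have hιA : ι.comp (algebraMap A R) = algebraMap A D := rfl
  have hιq : ∀ z ∈ q, ι z ∈ maximalIdeal D := fun z hz =>
    (IsLocalization.AtPrime.to_map_mem_maximal_iff D q₁ _).2 (Ideal.mem_map_of_mem _ hz)
  have hAm : ∀ a ∈ maximalIdeal A, algebraMap A D a ∈ maximalIdeal D := fun a ha =>
    hιq _ (hq (Ideal.mem_map_of_mem _ ha))
  have hinjR : Function.Injective (algebraMap R₁ D) := IsLocalization.injective D q₁.primeCompl_le_nonZeroDivisors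
  have hϖD : algebraMap A D ϖ ≠ 0 := fun h => hϖr' (Ideal.Quotient.eq_zero_iff_mem.1
    (hinjR (h.trans (map_zero _).symm)))
  have hprimes : ∀ P : Ideal D, P.IsPrime → P ≠ ⊥ → algebraMap A D ϖ ∈ P := by
    intro P hP hPne
    by_contra hnot
    let P' := P.comap ι
    have hP'q : P' ≤ q := fun z hz => by
      rw [← hq₁]
      exact (IsLocalization.AtPrime.to_map_mem_maximal_iff D q₁ _).1 (le_maximalIdeal hP.ne_top hz)
    have hlt : r' < P' := by
      refine lt_of_le_of_ne (fun z hz => ?_) fun he => hPne ?_
      · show algebraMap R₁ D (Ideal.Quotient.mk r' z) ∈ P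
        rw [Ideal.Quotient.eq_zero_iff_mem.2 hz, map_zero]
        exact P.zero_mem
      · refine eq_bot_iff.2 fun d hd => ?_
        obtain ⟨⟨c, s⟩, hcs⟩ := IsLocalization.surj q₁.primeCompl d
        obtain ⟨z, rfl⟩ := Ideal.Quotient.mk_surjective c
        have hz : z ∈ P' := show algebraMap R₁ D (mk z) ∈ P from hcs ▸ P.mul_mem_right _ hd
        rw [← he] at hz
        have : algebraMap R₁ D (Ideal.Quotient.mk r' z) = 0 := by
          rw [Ideal.Quotient.eq_zero_iff_mem.2 hz, map_zero]
        rw [← hcs] at this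
        exact (IsLocalization.map_units D s).mul_left_eq_zero.1 this
    exact hmax P' ⟨inferInstance, hP'q, hrr'.trans hlt.le, hnot⟩ hlt
  have hdim : (maximalIdeal D).height ≤ 1 := height_maximalIdeal_le_one hϖD hprimes
  have hone : ∀ P : Ideal D, P.IsPrime → P ≠ ⊥ → P = maximalIdeal D := by
    intro P hP hPne
    haveI := hP
    by_contra hne
    have h1 : (⊥ : Ideal D).height + 1 ≤ P.height :=
      Order.add_one_le_of_lt (Ideal.height_strict_mono_of_isPrime (bot_lt_iff_ne_bot.2 hPne))
    have h2 : P.height + 1 ≤ (maximalIdeal D).height :=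
      Order.add_one_le_of_lt (Ideal.height_strict_mono_of_isPrime (lt_of_le_of_ne (le_maximalIdeal hP.ne_top) hne))
    rw [Ideal.height_bot, zero_add] at h1
    have h3 := (add_le_add_left h1 1).trans (h2.trans hdim)
    exact absurd h3 (by decide)
  -- a power of the maximal ideal lies in the ideal of the uniformiser
  let I := Ideal.span {algebraMap A D ϖ}
  obtain ⟨N, hN⟩ : ∃ N, maximalIdeal D ^ N ≤ I := by
    refine Ideal.exists_pow_le_of_le_radical_of_fg ?_ (IsNoetherian.noetherian _)
    rw [Ideal.radical_eq_sInf]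
    refine le_sInf fun P hP => (hone P hP.2 fun h => hϖD ?_).ge
    have := hP.1 (Ideal.mem_span_singleton_self _)
    rwa [h] at this
  -- the residue field is that of the base
  have hres : ∀ d : D, ∃ a : A, d - algebraMap A D a ∈ maximalIdeal D := by
    intro d
    obtain ⟨⟨c, s⟩, hcs⟩ := IsLocalization.surj q₁.primeCompl d
    obtain ⟨z, rfl⟩ := Ideal.Quotient.mk_surjective c
    obtain ⟨w, hw⟩ := Ideal.Quotient.mk_surjective (s : R₁)
    obtain ⟨a, ha⟩ := hsurj z
    obtain ⟨b, hb⟩ := hsurj w
    have hbu : IsUnit b := by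
      by_contra hb'
      refine s.2 ?_
      rw [← hw]
      refine Ideal.mem_map_of_mem _ ?_
      have := hq (Ideal.mem_map_of_mem (algebraMap A R) ((mem_maximalIdeal b).2 hb'))
      simpa using add_mem hb this
    obtain ⟨b', hbb'⟩ := hbu.exists_right_inv
    refine ⟨a * b', ?_⟩
    have h1 : ι z - algebraMap A D a ∈ maximalIdeal D := by
      show ι z - ι (algebraMap A R a) ∈ maximalIdeal D
      rw [← map_sub]; exact hιq _ ha
    have h2 : ι w - algebraMap A D b ∈ maximalIdeal D := by
      show ι w - ι (algebraMap A R b) ∈ maximalIdeal D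
      rw [← map_sub]; exact hιq _ hb
    have h3 : d * ι w = ι z := by
      show d * algebraMap R₁ D (Ideal.Quotient.mk r' w) = _
      rw [hw]; exact hcs
    have h4 : d - algebraMap A D (a * b') =
        algebraMap A D b' * ((ι z - algebraMap A D a) - d * (ι w - algebraMap A D b)) := by
      have hb1 : algebraMap A D b' * algebraMap A D b = 1 := by rw [← map_mul, mul_comm, hbb', map_one]
      calc d - algebraMap A D (a * b') = d * (algebraMap A D b' * algebraMap A D b) - algebraMap A D b' * algebraMap A D a := by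
            rw [hb1, mul_one, map_mul, mul_comm]
        _ = _ := by rw [← h3]; ring
    rw [h4]
    exact Ideal.mul_mem_left _ _ (sub_mem h1 (Ideal.mul_mem_left _ _ h2))
  -- finiteness
  have hfg : ∀ n : ℕ, ∃ M : Submodule A D, M.FG ∧ ∀ d : D, ∃ y ∈ M, d - y ∈ maximalIdeal D ^ n := by
    intro n
    induction n with
    | zero => exact ⟨⊥, Submodule.fg_bot, fun d => ⟨0, zero_mem _, by simp⟩⟩
    | succ n ih =>
      obtain ⟨M, hM, hMd⟩ := ih
      obtain ⟨G, hG⟩ := IsNoetherian.noetherian (maximalIdeal D ^ n)
      refine ⟨M ⊔ Submodule.span A (G : Set D), hM.sup (Submodule.fg_span G.finite_toSet), fun d => ?_⟩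
      obtain ⟨y, hy, hdy⟩ := hMd d
      have hmem : d - y ∈ Submodule.span D (G : Set D) := hG.ge hdy
      obtain ⟨c, -, hc⟩ := Submodule.mem_span_finset.1 hmem
      choose a ha using fun g => hres (c g)
      refine ⟨y + ∑ g ∈ G, a g • g, Submodule.add_mem_sup hy (Submodule.sum_mem _ fun g hg =>
        Submodule.smul_mem _ _ (Submodule.subset_span hg)), ?_⟩
      rw [show d - (y + ∑ g ∈ G, a g • g) = ∑ g ∈ G, (c g - algebraMap A D (a g)) * g by
        simp only [sub_mul, Finset.sum_sub_distrib, Algebra.smul_def]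
        rw [show ∑ g ∈ G, c g * g = d - y by simpa [smul_eq_mul] using hc]
        ring]
      refine Ideal.sum_mem _ fun g hg => ?_
      rw [pow_succ']
      exact Ideal.mul_mem_mul (ha g) (hG.le (Submodule.subset_span hg))
  haveI : Module.Finite A D := by
    have hI : ((maximalIdeal A) • ⊤ : Submodule A D) = I.restrictScalars A := by
      rw [Ideal.smul_top_eq_map, hmA, Ideal.map_span, Set.image_singleton]
    haveI : IsHausdorff (maximalIdeal A) D := ⟨fun d hd => by
      have h0 := Ideal.iInf_pow_eq_bot_of_isLocalRing (maximalIdeal D) (maximalIdeal.isMaximal D).ne_top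
      rw [← Ideal.mem_bot, ← h0, Submodule.mem_iInf]
      intro n
      have h := SModEq.zero.1 (hd n)
      rw [Ideal.smul_top_eq_map] at h
      have h' : d ∈ ((maximalIdeal A) ^ n).map (algebraMap A D) := h
      rw [Ideal.map_pow] at h'
      exact Ideal.pow_right_mono (Ideal.map_le_iff_le_comap.2 (fun a ha => hAm a ha) :
        (maximalIdeal A).map (algebraMap A D) ≤ maximalIdeal D) n h'⟩
    refine Groth.Agent.S0544.result A (maximalIdeal A) D ?_
    obtain ⟨M, hM, hMd⟩ := hfg N
    refine ⟨?_⟩
    have htop : M.map (Submodule.mkQ ((maximalIdeal A) • ⊤ : Submodule A D)) = ⊤ := by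
      refine eq_top_iff.2 fun z _ => ?_
      obtain ⟨d, rfl⟩ := Submodule.mkQ_surjective _ z
      obtain ⟨y, hy, hdy⟩ := hMd d
      refine ⟨y, hy, ((Submodule.Quotient.eq _).2 ?_).symm⟩
      rw [hI]
      exact hN hdy
    rw [← htop]
    exact hM.map _
  -- normalisation
  have hinjA : Function.Injective (algebraMap A D) := by
    rw [RingHom.injective_iff_ker_eq_bot]
    by_contra hne
    haveI : (RingHom.ker (algebraMap A D)).IsPrime := RingHom.ker_isPrime _
    have hkm := eq_maximalIdeal ((inferInstance : (RingHom.ker (algebraMap A D)).IsPrime).isMaximal hne)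
    exact hϖD (hkm.ge (hmA ▸ Ideal.mem_span_singleton_self ϖ))
  obtain ⟨B, _, _, _, φ, hφ, j, hj, hjc, hjloc⟩ := exists_dvr_of_finite A D hinjA hAm
  exact ⟨B, inferInstance, inferInstance, inferInstance, φ, hφ, j.comp ι, hj,
    by rw [RingHom.comp_assoc, hιA]; exact hjc, fun z hz => hjloc _ (hιq z hz)⟩

end Groth.Agent.UnivOpenAt.DvrLift
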